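import Groth.Prelude.Def_MeroSh
import Mathlib.AlgebraicGeometry.AffineScheme

/-!
Regular sections on affine opens.
-/

universe u

open CategoryTheory AlgebraicGeometry TopologicalSpace Opposite

namespace Groth.Agent.MeroX

variable {X : Scheme.{u}}

lemma nonZeroDivisors_map {A : Type u} [CommRing A] (M : Submonoid A) {S : Type u} [CommRing S]
    [Algebra A S] [IsLocalization M S] {a : A} (ha : a ∈ nonZeroDivisors A) :
    algebraMap A S a ∈ nonZeroDivisors S := by
  rw [mem_nonZeroDivisors_iff_right]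
  intro x hx
  obtain ⟨b, s, rfl⟩ := IsLocalization.exists_mk'_eq M x
  have h1 : algebraMap A S (b * a) = 0 := by
    rw [map_mul, ← IsLocalization.mk'_spec S b s, mul_right_comm, hx, zero_mul]
  obtain ⟨t, ht⟩ := (IsLocalization.map_eq_zero_iff M S _).mp h1
  rw [IsLocalization.mk'_eq_zero_iff]
  exact ⟨t, mem_nonZeroDivisors_iff_right.mp ha _ (by rw [mul_assoc]; exact ht)⟩

lemma germ_mem_nonZeroDivisors {U : X.Opens} (hU : IsAffineOpen U) {a : Γ(X, U)}
    (ha : a ∈ nonZeroDivisors Γ(X, U)) (x : X) (hx : x ∈ U) :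
    X.presheaf.germ U x hx a ∈ nonZeroDivisors (X.presheaf.stalk x) := by
  let := X.presheaf.algebra_section_stalk ⟨x, hx⟩
  have := hU.isLocalization_stalk ⟨x, hx⟩
  exact nonZeroDivisors_map (hU.primeIdealOf ⟨x, hx⟩).asIdeal.primeCompl ha

lemma regSub_eq_nonZeroDivisors {U : X.Opens} (hU : IsAffineOpen U) :
    Mero.regSub X U = nonZeroDivisors Γ(X, U) := by
  ext a
  refine ⟨fun h => ?_, fun h x => germ_mem_nonZeroDivisors hU h x.1 x.2⟩
  rw [mem_nonZeroDivisors_iff_right]
  intro b hb
  refine TopCat.Presheaf.section_ext X.sheaf U b 0 fun x hx => ?_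
  have h1 : X.presheaf.germ U x hx b = 0 := mem_nonZeroDivisors_iff_right.mp (h ⟨x, hx⟩) _
    (((map_mul (X.presheaf.germ U x hx).hom b a).symm.trans
      (congrArg (X.presheaf.germ U x hx) hb)).trans (map_zero _))
  exact h1.trans (map_zero (X.presheaf.germ U x hx).hom).symm

end Groth.Agent.MeroX
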