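import Groth.Agent.ModPairLib.Basic
import Groth.Agent.MeroX.Basic
import Mathlib.AlgebraicGeometry.Noetherian
import Mathlib.AlgebraicGeometry.Morphisms.Flat
import Mathlib.RingTheory.Flat.Basic

/-!
Effective Cartier divisors.
-/

universe u

open CategoryTheory AlgebraicGeometry

namespace Groth.Agent.MeroX

variable {X Y : Scheme.{u}}

lemma isEffCartier_comap (f : X ⟶ Y) [Flat f] (I : Y.IdealSheafData)
    (hI : BlowUp.IsEffCartierIdeal I) : BlowUp.IsEffCartierIdeal (I.comap f) := by
  intro x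
  obtain ⟨U, hU, a, ha, hIa⟩ := hI (f x)
  obtain ⟨_, ⟨V, hV, rfl⟩, hxV, hVU⟩ := X.isBasis_affineOpens.exists_subset_of_mem_open
    (show x ∈ (f ⁻¹ᵁ U.1 : Set X) from hU) (f ⁻¹ᵁ U.1).isOpen
  refine ⟨⟨V, hV⟩, hxV, f.appLE U.1 V hVU a, ?_, ?_⟩
  · have hflat : (f.appLE U.1 V hVU).hom.Flat :=
      HasRingHomProperty.appLE @Flat f inferInstance U ⟨V, hV⟩ hVU
    letI := (f.appLE U.1 V hVU).hom.toAlgebra
    haveI : Module.Flat Γ(Y, U.1) Γ(X, V) := hflat
    have h1 := IsSMulRegular.of_flat (S := Γ(X, V))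
      (show IsSMulRegular Γ(Y, U.1) a from fun p q h => by
        have h0 : (p - q) * a = 0 := by
          simp only [smul_eq_mul] at h
          rw [sub_mul, mul_comm p, mul_comm q, h, sub_self]
        exact sub_eq_zero.mp (mem_nonZeroDivisors_iff_right.mp ha _ h0))
    rw [mem_nonZeroDivisors_iff_right]
    intro y hy
    refine h1 ?_
    change algebraMap _ _ a * y = algebraMap _ _ a * 0
    rw [mul_zero, mul_comm]
    exact hy
  · rw [ModPairLib.ideal_comap I f U ⟨V, hV⟩ hVU, hIa, Ideal.map_span, Set.image_singleton]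

lemma exists_regular_generator {A : Type u} [CommRing A] [IsNoetherianRing A] (I : Ideal A)
    (p : Ideal A) [p.IsPrime] (S : Type u) [CommRing S] [Algebra A S] [IsLocalization.AtPrime S p]
    (g : S) (hg : g ∈ nonZeroDivisors S) (hI : I.map (algebraMap A S) = Ideal.span {g}) :
    ∃ h : A, h ∉ p ∧ ∃ a : A, algebraMap A (Localization.Away h) a ∈ nonZeroDivisors (Localization.Away h) ∧
      I.map (algebraMap A (Localization.Away h)) = Ideal.span {algebraMap A (Localization.Away h) a} := by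
  classical
  have hgm : g ∈ I.map (algebraMap A S) := hI ▸ Ideal.mem_span_singleton_self g
  obtain ⟨⟨⟨a, ha⟩, s⟩, hs⟩ := (IsLocalization.mem_map_algebraMap_iff p.primeCompl S).mp hgm
  have hu := IsLocalization.map_units S s
  have hanzd : algebraMap A S a ∈ nonZeroDivisors S := by
    rw [← hs]; exact mul_mem hg hu.mem_nonZeroDivisors
  -- annihilator of `a` is killed outside `p`
  obtain ⟨G, hG⟩ := IsNoetherian.noetherian (LinearMap.ker (LinearMap.mulRight A a))
  have hkill : ∀ z ∈ G, ∃ t : p.primeCompl, (t : A) * z = 0 := fun z hz => by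
    refine (IsLocalization.map_eq_zero_iff p.primeCompl S z).mp
      (mem_nonZeroDivisors_iff_right.mp hanzd _ ?_)
    have : z * a = 0 := by
      have := hG ▸ Submodule.subset_span hz
      simpa using (this : z ∈ LinearMap.ker (LinearMap.mulRight A a))
    rw [← map_mul, this, map_zero]
  obtain ⟨F, hF⟩ := IsNoetherian.noetherian I
  have hgen : ∀ x ∈ F, ∃ t : p.primeCompl, (t : A) * x ∈ Ideal.span {a} := fun x hx => by
    have hxI : x ∈ I := hF ▸ Submodule.subset_span hx
    have h1 : algebraMap A S x ∈ Ideal.span {g} := hI ▸ Ideal.mem_map_of_mem _ hxI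
    obtain ⟨c, hc⟩ := Ideal.mem_span_singleton.mp h1
    obtain ⟨y, t, rfl⟩ := IsLocalization.exists_mk'_eq p.primeCompl c
    have h2 : algebraMap A S (x * t * s) = algebraMap A S (y * a) := by
      rw [map_mul, map_mul, hc, mul_assoc g, IsLocalization.mk'_spec, map_mul, ← hs]
      ring
    obtain ⟨r, hr⟩ := (IsLocalization.eq_iff_exists p.primeCompl S).mp h2
    refine ⟨r * t * s, Ideal.mem_span_singleton.mpr ⟨r * y, ?_⟩⟩
    simp only [Submonoid.coe_mul]
    linear_combination hr
  choose! t ht using hkill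
  choose! t' ht' using hgen
  let h : p.primeCompl := (∏ z ∈ G, t z) * ∏ x ∈ F, t' x
  refine ⟨h.1, h.2, a, ?_, ?_⟩
  · rw [mem_nonZeroDivisors_iff_right]
    intro y hy
    obtain ⟨z, m, rfl⟩ := IsLocalization.exists_mk'_eq (Submonoid.powers h.1) y
    have h1 : algebraMap A (Localization.Away h.1) (z * a) = 0 := by
      rw [map_mul, ← IsLocalization.mk'_spec (Localization.Away h.1) z m, mul_right_comm, hy, zero_mul]
    obtain ⟨⟨_, n, rfl⟩, hn⟩ := (IsLocalization.map_eq_zero_iff (Submonoid.powers h.1) _ _).mp h1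
    have hker : h.1 ^ n * z ∈ Submodule.span A (G : Set A) := by
      rw [hG]; simpa [mul_assoc] using hn
    have hann : Submodule.span A (G : Set A) ≤ LinearMap.ker (LinearMap.mulLeft A h.1) := by
      rw [Submodule.span_le]
      intro w hw
      obtain ⟨c, hc⟩ : t w ∣ h := (Finset.dvd_prod_of_mem t hw).mul_right _
      simp only [SetLike.mem_coe, LinearMap.mem_ker, LinearMap.mulLeft_apply, hc, Submonoid.coe_mul]
      rw [mul_right_comm, ht w hw, zero_mul]
    have h2 : h.1 * (h.1 ^ n * z) = 0 := hann hker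
    rw [IsLocalization.mk'_eq_zero_iff]
    exact ⟨⟨h.1 ^ (n + 1), n + 1, rfl⟩, by change h.1 ^ (n + 1) * z = 0; rw [pow_succ]; linear_combination h2⟩
  · refine le_antisymm ?_ ?_
    · rw [← hF, Submodule.span, Ideal.map_le_iff_le_comap]
      refine sInf_le fun x hx => ?_
      obtain ⟨c, hc⟩ : t' x ∣ h := (Finset.dvd_prod_of_mem t' hx).mul_left _
      obtain ⟨d, hd⟩ := Ideal.mem_span_singleton.mp (ht' x hx)
      rw [SetLike.mem_coe, Ideal.mem_comap, Ideal.mem_span_singleton]
      obtain ⟨w, hw⟩ := (IsLocalization.Away.algebraMap_isUnit (S := Localization.Away h.1) h.1).exists_right_inv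
      refine ⟨algebraMap A _ (d * c.1) * w, ?_⟩
      have e : algebraMap A (Localization.Away h.1) h.1 * algebraMap A _ x =
          algebraMap A _ a * algebraMap A _ (d * c.1) := by
        rw [← map_mul, ← map_mul]
        congr 1
        rw [show h.1 = (t' x).1 * c.1 from congrArg Subtype.val hc]
        linear_combination c.1 * hd
      linear_combination w * e - algebraMap A (Localization.Away h.1) x * hw
    · rw [Ideal.span_singleton_le_iff_mem]
      exact Ideal.mem_map_of_mem _ ha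

lemma isEffCartier_of_stalk [IsLocallyNoetherian X] (D : X.IdealSheafData)
    (h : ∀ x ∈ D.support, ∀ (U : X.affineOpens) (hx : x ∈ (U : X.Opens)),
      ∃ g : X.presheaf.stalk x, g ∈ nonZeroDivisors (X.presheaf.stalk x) ∧
        (D.ideal U).map (X.presheaf.germ U x hx).hom = Ideal.span {g}) :
    BlowUp.IsEffCartierIdeal D := by
  intro x
  obtain ⟨_, ⟨U, hU, rfl⟩, hxU, -⟩ :=
    X.isBasis_affineOpens.exists_subset_of_mem_open (Set.mem_univ x) isOpen_univ
  letI := X.presheaf.algebra_section_stalk ⟨x, hxU⟩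
  haveI := hU.isLocalization_stalk ⟨x, hxU⟩
  haveI : IsNoetherianRing Γ(X, U) := IsLocallyNoetherian.component_noetherian ⟨U, hU⟩
  obtain ⟨g, hg, hgI⟩ : ∃ g : X.presheaf.stalk x, g ∈ nonZeroDivisors (X.presheaf.stalk x) ∧
      (D.ideal ⟨U, hU⟩).map (X.presheaf.germ U x hxU).hom = Ideal.span {g} := by
    by_cases hx : x ∈ D.support
    · exact h x hx ⟨U, hU⟩ hxU
    · refine ⟨1, one_mem _, ?_⟩
      rw [Ideal.span_singleton_one]
      rw [Scheme.IdealSheafData.mem_support_iff_of_mem (U := ⟨U, hU⟩) hxU,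
        Scheme.mem_zeroLocus_iff] at hx
      push Not at hx
      obtain ⟨b, hb, hxb⟩ := hx
      exact Ideal.eq_top_of_isUnit_mem _ (Ideal.mem_map_of_mem _ hb)
        ((Scheme.mem_basicOpen _ _ _ hxU).mp hxb)
  obtain ⟨r, hr, a, ha, hIa⟩ := exists_regular_generator (D.ideal ⟨U, hU⟩)
    (hU.primeIdealOf ⟨x, hxU⟩).asIdeal (X.presheaf.stalk x) g hg hgI
  haveI := hU.isLocalization_basicOpen r
  let e := IsLocalization.algEquiv (Submonoid.powers r) (Localization.Away r) Γ(X, X.basicOpen r)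
  have hres : ∀ y : Γ(X, U), X.presheaf.map (homOfLE (X.basicOpen_le r)).op y =
      e (algebraMap Γ(X, U) (Localization.Away r) y) := fun y => (e.commutes y).symm
  refine ⟨⟨X.basicOpen r, hU.basicOpen r⟩, ?_, e (algebraMap _ _ a), ?_, ?_⟩
  · have hxp : hU.fromSpec (hU.primeIdealOf ⟨x, hxU⟩) = x := hU.fromSpec_primeIdealOf ⟨x, hxU⟩
    have h1 : hU.primeIdealOf ⟨x, hxU⟩ ∈ hU.fromSpec ⁻¹ᵁ X.basicOpen r := by
      rw [hU.fromSpec_preimage_basicOpen]; exact hr
    exact hxp ▸ (show hU.fromSpec (hU.primeIdealOf ⟨x, hxU⟩) ∈ X.basicOpen r from h1)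
  · exact MulEquivClass.map_nonZeroDivisors e.toRingEquiv ▸ Submonoid.mem_map_of_mem _ ha
  · change D.ideal (X.affineBasicOpen (U := ⟨U, hU⟩) r) = _
    rw [← D.map_ideal_basicOpen ⟨U, hU⟩ r]
    have hφ : (X.presheaf.map (homOfLE (X.basicOpen_le r)).op).hom =
        (e : Localization.Away r →+* Γ(X, X.basicOpen r)).comp (algebraMap Γ(X, U) (Localization.Away r)) :=
      RingHom.ext hres
    rw [hφ, ← Ideal.map_map, hIa, Ideal.map_span, Set.image_singleton]
    rfl

end Groth.Agent.MeroX
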