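import Groth.Prelude.Def_CurvBase
import Groth.Agent.MeroX.EffCartier
import Mathlib.RingTheory.Ideal.KrullsHeightTheorem
import Mathlib.RingTheory.Filtration
import Mathlib.RingTheory.DiscreteValuationRing.TFAE

/-!
Local rings at generic points of divisors.
-/

universe u

open CategoryTheory AlgebraicGeometry

namespace Groth.Agent.MeroX

variable {X : Scheme.{u}}

lemma mem_minimalPrimes_of_generic (D : X.IdealSheafData) (ξ : X)
    (hξ : ξ ∈ (D.support : Set X)) (hgen : ∀ y ∈ (D.support : Set X), y ⤳ ξ → y = ξ)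
    (U : X.affineOpens) (hU : ξ ∈ U.1) :
    IsLocalRing.maximalIdeal (X.presheaf.stalk ξ) ∈
      ((D.ideal U).map (X.presheaf.germ U.1 ξ hU).hom).minimalPrimes := by
  let := X.presheaf.algebra_section_stalk ⟨ξ, hU⟩
  have hloc := U.2.isLocalization_stalk ⟨ξ, hU⟩
  set p := U.2.primeIdealOf ⟨ξ, hU⟩ with hp
  have hzero := (Scheme.IdealSheafData.mem_support_iff_of_mem (U := U) hU).mp hξ
  have hsub : (D.ideal U).map (X.presheaf.germ U.1 ξ hU).hom ≤
      IsLocalRing.maximalIdeal (X.presheaf.stalk ξ) := by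
    rw [Ideal.map_le_iff_le_comap]
    intro a ha
    rw [Ideal.mem_comap, IsLocalRing.mem_maximalIdeal, mem_nonunits_iff]
    intro hu
    exact (Scheme.mem_zeroLocus_iff _ _ _).mp hzero a ha ((Scheme.mem_basicOpen _ _ _ hU).mpr hu)
  refine ⟨⟨inferInstance, hsub⟩, fun Q ⟨hQ, hIQ⟩ _ => ?_⟩
  haveI := hQ
  let q : PrimeSpectrum Γ(X, U.1) :=
    ⟨Q.comap (algebraMap Γ(X, U.1) (X.presheaf.stalk ξ)), inferInstance⟩
  have hqp : q ≤ p := by
    change q.asIdeal ≤ p.asIdeal
    rw [← IsLocalization.AtPrime.comap_maximalIdeal (X.presheaf.stalk ξ) p.asIdeal]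
    exact Ideal.comap_mono (IsLocalRing.le_maximalIdeal hQ.ne_top)
  have hspec : U.2.fromSpec q ⤳ ξ := by
    have := ((PrimeSpectrum.le_iff_specializes q p).mp hqp).map U.2.fromSpec.continuous
    rwa [U.2.fromSpec_primeIdealOf ⟨ξ, hU⟩] at this
  have hz : U.2.fromSpec q ∈ U.1 := U.2.range_fromSpec.le ⟨q, rfl⟩
  have hzs : U.2.fromSpec q ∈ (D.support : Set X) := by
    refine (Scheme.IdealSheafData.mem_support_iff_of_mem (U := U) hz).mpr
      ((Scheme.mem_zeroLocus_iff _ _ _).mpr fun a ha h => ?_)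
    have h' : q ∈ U.2.fromSpec ⁻¹ᵁ X.basicOpen a := h
    rw [U.2.fromSpec_preimage_basicOpen] at h'
    exact h' (hIQ (Ideal.mem_map_of_mem _ ha))
  have hqeq : q = p := U.2.fromSpec.isOpenEmbedding.injective
    ((hgen _ hzs hspec).trans (U.2.fromSpec_primeIdealOf ⟨ξ, hU⟩).symm)
  refine le_of_eq ?_
  have hQeq : Q.comap (algebraMap Γ(X, U.1) (X.presheaf.stalk ξ)) =
      (IsLocalRing.maximalIdeal (X.presheaf.stalk ξ)).comap (algebraMap Γ(X, U.1) (X.presheaf.stalk ξ)) :=
    (congrArg PrimeSpectrum.asIdeal hqeq).trans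
      (IsLocalization.AtPrime.comap_maximalIdeal (X.presheaf.stalk ξ) p.asIdeal).symm
  have := congrArg (Ideal.map (algebraMap Γ(X, U.1) (X.presheaf.stalk ξ))) hQeq
  rw [IsLocalization.map_under p.asIdeal.primeCompl, IsLocalization.map_under p.asIdeal.primeCompl] at this
  exact this.symm

lemma stalk_dim_le_one [IsLocallyNoetherian X] (D : X.IdealSheafData) (ξ : X)
    (hξ : ξ ∈ (D.support : Set X)) (hgen : ∀ y ∈ (D.support : Set X), y ⤳ ξ → y = ξ)
    (U : X.affineOpens) (hU : ξ ∈ U.1) (f : Γ(X, U.1)) (hf : D.ideal U = Ideal.span {f}) :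
    ringKrullDim (X.presheaf.stalk ξ) ≤ 1 := by
  have h := mem_minimalPrimes_of_generic D ξ hξ hgen U hU
  rw [hf, Ideal.map_span, Set.image_singleton] at h
  rw [← IsLocalRing.maximalIdeal_height_eq_ringKrullDim]
  exact_mod_cast Ideal.height_le_one_of_isPrincipal_of_mem_minimalPrimes (Ideal.span {_}) _ h

lemma stalk_dim_eq_one [IsLocallyNoetherian X] (D : X.IdealSheafData) (hD : BlowUp.IsEffCartierIdeal D)
    (ξ : X) (hξ : ξ ∈ (D.support : Set X)) (hgen : ∀ y ∈ (D.support : Set X), y ⤳ ξ → y = ξ) :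
    ringKrullDim (X.presheaf.stalk ξ) = 1 := by
  obtain ⟨U, hU, f, hf, hfD⟩ := hD ξ
  refine le_antisymm (stalk_dim_le_one D ξ hξ hgen U hU f hfD) ?_
  rw [← IsLocalRing.maximalIdeal_height_eq_ringKrullDim]
  have h1 := Ideal.one_le_height_span_singleton_of_mem_nonZeroDivisors
    (germ_mem_nonZeroDivisors U.2 hf ξ hU)
  have h2 : Ideal.span {X.presheaf.germ U.1 ξ hU f} ≤ IsLocalRing.maximalIdeal _ := by
    have h := (mem_minimalPrimes_of_generic D ξ hξ hgen U hU).1.2
    rw [hfD, Ideal.map_span, Set.image_singleton] at h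
    exact h
  exact_mod_cast h1.trans (Ideal.height_mono h2)

lemma isDomain_dvr_of_maximalIdeal {R : Type u} [CommRing R] [IsLocalRing R] [IsNoetherianRing R] (g : R)
    (hg : g ∈ nonZeroDivisors R) (hm : IsLocalRing.maximalIdeal R = Ideal.span {g}) :
    ∃ _ : IsDomain R, IsDiscreteValuationRing R := by
  have hfac : ∀ x : R, x ≠ 0 → ∃ n, ∃ c : Rˣ, x = g ^ n * c := by
    intro x hx
    classical
    have hex : ∃ n, x ∉ IsLocalRing.maximalIdeal R ^ n := by
      by_contra h
      push Not at h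
      have : x ∈ ⨅ n, IsLocalRing.maximalIdeal R ^ n := Submodule.mem_iInf _ |>.mpr h
      rw [Ideal.iInf_pow_eq_bot_of_isLocalRing _ (IsLocalRing.maximalIdeal.isMaximal R).ne_top] at this
      exact hx this
    have hspec := Nat.find_spec hex
    rcases hn : Nat.find hex with _ | m
    · rw [hn, pow_zero] at hspec; simp at hspec
    · have hmem : x ∈ IsLocalRing.maximalIdeal R ^ m :=
        not_not.mp (Nat.find_min hex (by omega))
      rw [hm, Ideal.span_singleton_pow, Ideal.mem_span_singleton] at hmem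
      obtain ⟨c, hc⟩ := hmem
      have hcu : IsUnit c := by
        by_contra hcu
        have : c ∈ IsLocalRing.maximalIdeal R := hcu
        rw [hm, Ideal.mem_span_singleton] at this
        obtain ⟨d, rfl⟩ := this
        apply hspec
        rw [hn, hm, Ideal.span_singleton_pow, Ideal.mem_span_singleton, hc, pow_succ]
        exact ⟨d, by ring⟩
      exact ⟨m, hcu.unit, hc⟩
  haveI : NoZeroDivisors R := ⟨fun {a b} hab => by
    by_contra h
    push Not at h
    obtain ⟨n, c, rfl⟩ := hfac a h.1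
    obtain ⟨m, d, rfl⟩ := hfac b h.2
    have h0 : ((c * d : Rˣ) : R) * g ^ (n + m) = 0 := by
      rw [← hab, pow_add, Units.val_mul]; ring
    exact (c * d).ne_zero (mem_nonZeroDivisors_iff_right.mp (pow_mem hg _) _ h0)⟩
  haveI : IsDomain R := NoZeroDivisors.to_isDomain R
  refine ⟨inferInstance, ?_⟩
  have hnf : ¬ IsField R := fun hF => by
    rw [IsLocalRing.isField_iff_maximalIdeal_eq.mp hF, eq_comm, Ideal.span_singleton_eq_bot] at hm
    exact nonZeroDivisors.ne_zero hg hm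
  exact ((IsDiscreteValuationRing.TFAE R hnf).out 0 4 rfl rfl).mpr ⟨g, hm⟩

lemma dvr_of_integral [IsLocallyNoetherian X] (D : X.IdealSheafData) (hD : BlowUp.IsEffCartierIdeal D)
    [IsReduced D.subscheme] (ξ : X) (hξ : ξ ∈ (D.support : Set X))
    (hgen : ∀ y ∈ (D.support : Set X), y ⤳ ξ → y = ξ) :
    ∃ _ : IsDomain (X.presheaf.stalk ξ), IsDiscreteValuationRing (X.presheaf.stalk ξ) := by
  obtain ⟨U, hU, f, hf, hfD⟩ := hD ξ
  let := X.presheaf.algebra_section_stalk ⟨ξ, hU⟩
  have hloc := U.2.isLocalization_stalk ⟨ξ, hU⟩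
  refine isDomain_dvr_of_maximalIdeal (X.presheaf.germ U.1 ξ hU f) (germ_mem_nonZeroDivisors U.2 hf ξ hU) ?_
  have hrad : (D.ideal U).IsRadical := by
    rw [← D.ker_subschemeι_app U, RingHom.ker_eq_comap_bot]
    intro a ha
    obtain ⟨n, hn⟩ := ha
    rw [Ideal.mem_comap, Ideal.mem_bot] at hn ⊢
    rw [map_pow] at hn
    exact IsReduced.eq_zero _ ⟨n, hn⟩
  have hmin := mem_minimalPrimes_of_generic D ξ hξ hgen U hU
  refine le_antisymm ?_ ?_
  · have h1 : IsLocalRing.maximalIdeal (X.presheaf.stalk ξ) ≤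
        ((D.ideal U).map (X.presheaf.germ U.1 ξ hU).hom).radical := by
      rw [Ideal.radical_eq_sInf]
      refine le_sInf fun Q ⟨hQI, hQ⟩ => ?_
      exact hmin.2 ⟨hQ, hQI⟩ (IsLocalRing.le_maximalIdeal hQ.ne_top)
    refine h1.trans ?_
    change ((D.ideal U).map (algebraMap Γ(X, U.1) (X.presheaf.stalk ξ))).radical ≤ _
    rw [← IsLocalization.map_radical (U.2.primeIdealOf ⟨ξ, hU⟩).asIdeal.primeCompl, hrad.radical, hfD,
      Ideal.map_span, Set.image_singleton]
    rfl
  · have h := hmin.1.2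
    rw [hfD, Ideal.map_span, Set.image_singleton] at h
    exact h

end Groth.Agent.MeroX
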