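import Groth.Agent.MeroX.EffCartier
import Mathlib.AlgebraicGeometry.Morphisms.Flat
import Mathlib.AlgebraicGeometry.Morphisms.Affine
import Mathlib.RingTheory.Flat.Equalizer
import Mathlib.Algebra.Category.Ring.Constructions

/-!
Base change of relative effective Cartier divisors.
-/

universe u

open CategoryTheory CategoryTheory.Limits AlgebraicGeometry
open scoped TensorProduct

namespace Groth.Agent.MeroX

lemma nzd_pushout {R A B C Q : CommRingCat.{u}} {i : R ⟶ A} {j : R ⟶ B} {inl : A ⟶ C} {inr : B ⟶ C}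
    (h : IsPushout i j inl inr) (q : A ⟶ Q) (hq : Function.Surjective q.hom) (f : A)
    (hker : RingHom.ker q.hom = Ideal.span {f}) (hf : f ∈ nonZeroDivisors A) (hflat : (i ≫ q).hom.Flat) :
    inl.hom f ∈ nonZeroDivisors C := by
  letI := i.hom.toAlgebra
  letI := j.hom.toAlgebra
  letI := (i ≫ q).hom.toAlgebra
  haveI : Module.Flat R Q := hflat
  let qL : A →ₗ[R] Q := (⟨q.hom, fun r => rfl⟩ : A →ₐ[R] Q).toLinearMap
  have hexact : Function.Exact (LinearMap.mulLeft (↑R) f) qL := by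
    intro a
    change q.hom a = 0 ↔ a ∈ Set.range (f * ·)
    rw [← RingHom.mem_ker, hker, Ideal.mem_span_singleton]
    exact ⟨fun ⟨c, hc⟩ => ⟨c, hc.symm⟩, fun ⟨c, hc⟩ => ⟨c, hc.symm⟩⟩
  have hinj : Function.Injective (LinearMap.mulLeft (↑R) f : A →ₗ[R] A) := by
    intro a b hab
    have h0 : (a - b) * f = 0 := by
      simp only [LinearMap.mulLeft_apply] at hab
      rw [sub_mul, mul_comm a, mul_comm b, hab, sub_self]
    exact sub_eq_zero.mp (mem_nonZeroDivisors_iff_right.mp hf _ h0)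
  have hl := LinearMap.lTensor_injective_of_exact_of_flat qL hq _ hinj hexact B
  let e := ((CommRingCat.isPushout_tensorProduct R A B).isoPushout ≪≫ h.isoPushout.symm)
  have he : CommRingCat.ofHom (Algebra.TensorProduct.includeLeftRingHom (R := R) (A := A) (B := B)) ≫ e.hom =
      inl := by
    simp [e]
  rw [← he]
  change e.hom.hom ((f : A) ⊗ₜ[R] (1 : B)) ∈ nonZeroDivisors C
  have hmem : (f : A) ⊗ₜ[R] (1 : B) ∈ nonZeroDivisors (A ⊗[R] B) := by
    rw [mem_nonZeroDivisors_iff_right]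
    have key : ∀ x : A ⊗[R] B, TensorProduct.comm R A B (x * (f ⊗ₜ[R] 1)) =
        (LinearMap.mulLeft (↑R) f).lTensor B (TensorProduct.comm R A B x) := by
      intro x
      induction x with
      | zero => simp
      | tmul a b => simp [mul_comm a f]
      | add x y hx' hy' =>
        rw [add_mul, map_add, hx', hy', map_add, map_add]
    intro x hx
    have key := key x
    rw [hx, map_zero] at key
    have := hl (key.symm.trans (map_zero _).symm)
    simpa using this
  exact MulEquivClass.map_nonZeroDivisors e.commRingCatIsoToRingEquiv ▸ Submonoid.mem_map_of_mem _ hmem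

lemma isEffCartier_baseChange {X S S' : Scheme.{u}} (f : X ⟶ S) (D : X.IdealSheafData)
    (hD : BlowUp.IsEffCartierIdeal D) [Flat (D.subschemeι ≫ f)] (g : S' ⟶ S) :
    BlowUp.IsEffCartierIdeal (D.comap (pullback.fst f g)) := by
  intro z
  obtain ⟨U, hxU, a, ha, hUa⟩ := hD (pullback.fst f g z)
  obtain ⟨_, ⟨W, hW, rfl⟩, hxW, -⟩ :=
    S.isBasis_affineOpens.exists_subset_of_mem_open (Set.mem_univ (f (pullback.fst f g z))) isOpen_univ
  obtain ⟨r, hrW, hxr⟩ := U.2.exists_basicOpen_le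
    (V := f ⁻¹ᵁ W) ⟨pullback.fst f g z, hxW⟩ hxU
  have hsz : g (pullback.snd f g z) ∈ W := by
    rw [← Scheme.Hom.comp_apply, ← pullback.condition, Scheme.Hom.comp_apply]; exact hxW
  obtain ⟨_, ⟨T, hT, rfl⟩, hzT, hTW⟩ := S'.isBasis_affineOpens.exists_subset_of_mem_open
    (show pullback.snd f g z ∈ (g ⁻¹ᵁ W : Set S') from hsz) (g ⁻¹ᵁ W).2
  let V : X.affineOpens := ⟨X.basicOpen r, U.2.basicOpen r⟩
  let O : (pullback f g).Opens := pullback.fst f g ⁻¹ᵁ V.1 ⊓ pullback.snd f g ⁻¹ᵁ T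
  have hp := (IsPullback.of_hasPullback f g)
  have hO : IsAffineOpen O := by
    haveI : IsAffine _ := hW
    haveI : IsAffine _ := hT
    haveI : IsAffine _ := V.2
    exact .of_isIso (Scheme.Hom.isPullback_resLE hp (UX := V.1) (US := W) hTW hrW
      (show O = pullback.fst f g ⁻¹ᵁ V.1 ⊓ pullback.snd f g ⁻¹ᵁ T from rfl)).isoPullback.hom
  haveI := U.2.isLocalization_basicOpen r
  have hVa : D.ideal V = Ideal.span {X.presheaf.map (homOfLE (X.basicOpen_le r)).op a} := by
    refine (D.map_ideal_basicOpen U r).symm.trans ?_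
    rw [hUa, Ideal.map_span, Set.image_singleton]
  have hanzd : X.presheaf.map (homOfLE (X.basicOpen_le r)).op a ∈ nonZeroDivisors Γ(X, V.1) :=
    nonZeroDivisors_map (A := Γ(X, U.1)) (S := Γ(X, X.basicOpen r)) (Submonoid.powers r) ha
  refine ⟨⟨O, hO⟩, ⟨hxr, hzT⟩, (pullback.fst f g).appLE V.1 O inf_le_left
    (X.presheaf.map (homOfLE (X.basicOpen_le r)).op a), ?_, ?_⟩
  · haveI := isIso_pushoutSection_of_isAffineOpen hp (UT := T) (UX := V.1) (US := W) hTW hrW
      (show O = pullback.fst f g ⁻¹ᵁ V.1 ⊓ pullback.snd f g ⁻¹ᵁ T from rfl) hW hT V.2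
    refine nzd_pushout ((isIso_pushoutSection_iff hp hTW hrW rfl).mp this) (D.subschemeι.app V.1)
      (D.subschemeι_app_surjective V) _ ((D.ker_subschemeι_app V).trans hVa) hanzd ?_
    have hle : D.subschemeι ⁻¹ᵁ V.1 ≤ (D.subschemeι ≫ f) ⁻¹ᵁ W := fun y hy => hrW hy
    have := HasRingHomProperty.appLE @Flat (D.subschemeι ≫ f) inferInstance ⟨W, hW⟩
      ⟨D.subschemeι ⁻¹ᵁ V.1, V.2.preimage D.subschemeι⟩ hle
    rw [Scheme.Hom.app_eq_appLE]
    erw [Scheme.Hom.appLE_comp_appLE]
    exact this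
  · refine (ModPairLib.ideal_comap D (pullback.fst f g) V ⟨O, hO⟩ inf_le_left).trans ?_
    refine ((congrArg (Ideal.map _) hVa).trans (Ideal.map_span _ _)).trans ?_
    exact congrArg Ideal.span Set.image_singleton

end Groth.Agent.MeroX
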