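import Groth.Prelude.Def_CurvBase
import Groth.Agent.MeroX.EffCartier
import Mathlib.AlgebraicGeometry.GammaSpecAdjunction
import Mathlib.Topology.Sheaves.SheafCondition.UniqueGluing

/-!
A finite extension in which an ideal becomes free is the blow-up in that ideal.
-/

universe u

open CategoryTheory AlgebraicGeometry TopologicalSpace Opposite

namespace Groth.Agent.MeroX

lemma eq_toSpecΓ_comp {Y : Scheme.{u}} {R : CommRingCat.{u}} (h : Y ⟶ Spec R) :
    h = Y.toSpecΓ ≫ Spec.map ((Scheme.ΓSpecIso R).inv ≫ h.appTop) := by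
  rw [Spec.map_comp, ← Scheme.toSpecΓ_naturality_assoc, toSpecΓ_SpecMap_ΓSpecIso_inv, Category.comp_id]

section

variable {A : Type u} [CommRing A] (I : Ideal A) {Y : Scheme.{u}} (g : Y ⟶ Spec (CommRingCat.of A))

/-- The map on global functions. -/
noncomputable def σ : A →+* Γ(Y, ⊤) := ((Scheme.ΓSpecIso (CommRingCat.of A)).inv ≫ g.appTop).hom

lemma ideal_comap_idealSheaf (V : Y.affineOpens) :
    ((Curv2.idealSheaf A I).comap g).ideal V =
      I.map (((Y.presheaf.map (homOfLE (le_top : V.1 ≤ ⊤)).op).hom).comp (σ g)) := by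
  rw [ModPairLib.ideal_comap _ g ⟨⊤, isAffineOpen_top _⟩ V le_top]
  delta Curv2.idealSheaf
  rw [Scheme.IdealSheafData.ofIdealTop_ideal, Ideal.map_map, Ideal.map_map]
  congr 1

variable {I g}

lemma exists_chart (hg : BlowUp.IsEffCartierIdeal ((Curv2.idealSheaf A I).comap g)) {a₀ : A}
    (ha₀ : a₀ ∈ I) (hsq : ∀ x ∈ I, ∀ y ∈ I, ∃ z ∈ I, x * y = a₀ * z) (y : Y) :
    ∃ V : Y.affineOpens, y ∈ V.1 ∧
      (Y.presheaf.map (homOfLE (le_top : V.1 ≤ ⊤)).op) (σ g a₀) ∈ nonZeroDivisors Γ(Y, V.1) ∧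
      ∀ x ∈ I, (Y.presheaf.map (homOfLE (le_top : V.1 ≤ ⊤)).op) (σ g a₀) ∣
        (Y.presheaf.map (homOfLE (le_top : V.1 ≤ ⊤)).op) (σ g x) := by
  obtain ⟨V, hy, h, hh, hV⟩ := hg y
  rw [ideal_comap_idealSheaf] at hV
  set τ := ((Y.presheaf.map (homOfLE (le_top : V.1 ≤ ⊤)).op).hom).comp (σ g)
  have hs : τ a₀ ∈ Ideal.span {h} := hV ▸ Ideal.mem_map_of_mem τ ha₀
  have hsq' : I.map τ * I.map τ ≤ Ideal.span {τ a₀} * I.map τ := by
    rw [← Ideal.map_mul, Ideal.map_le_iff_le_comap, Ideal.mul_le]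
    intro x hx z hz
    obtain ⟨w, hw, e⟩ := hsq x hx z hz
    rw [Ideal.mem_comap, e, map_mul]
    exact Ideal.mul_mem_mul (Ideal.mem_span_singleton_self _) (Ideal.mem_map_of_mem τ hw)
  rw [hV, Ideal.span_singleton_mul_span_singleton, Ideal.span_singleton_mul_span_singleton,
    Ideal.span_singleton_le_span_singleton] at hsq'
  obtain ⟨w, hw⟩ := hsq'
  have hhw : h = τ a₀ * w := sub_eq_zero.mp
    (mem_nonZeroDivisors_iff_right.mp hh (h - τ a₀ * w) (by linear_combination hw))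
  refine ⟨V, hy, ?_, fun x hx => ?_⟩
  · obtain ⟨v, hv⟩ := Ideal.mem_span_singleton.mp hs
    change τ a₀ ∈ _
    have hvu : v * w = 1 := sub_eq_zero.mp
      (mem_nonZeroDivisors_iff_right.mp hh (v * w - 1) (by linear_combination -hhw - w * hv))
    rw [hv]
    exact mul_mem hh (IsUnit.of_mul_eq_one _ hvu).mem_nonZeroDivisors
  · change τ a₀ ∣ τ x
    have : τ x ∈ Ideal.span {h} := hV ▸ Ideal.mem_map_of_mem τ hx
    exact (Dvd.intro w hhw.symm).trans (Ideal.mem_span_singleton.mp this)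

lemma cancel (hg : BlowUp.IsEffCartierIdeal ((Curv2.idealSheaf A I).comap g)) {a₀ : A}
    (ha₀ : a₀ ∈ I) (hsq : ∀ x ∈ I, ∀ y ∈ I, ∃ z ∈ I, x * y = a₀ * z) (W : Y.Opens)
    (p q : Γ(Y, W))
    (h : (Y.presheaf.map (homOfLE (le_top : W ≤ ⊤)).op) (σ g a₀) * p =
      (Y.presheaf.map (homOfLE (le_top : W ≤ ⊤)).op) (σ g a₀) * q) : p = q := by
  refine TopCat.Presheaf.section_ext Y.sheaf W p q fun y hy => ?_
  obtain ⟨V, hyV, hnzd, -⟩ := exists_chart hg ha₀ hsq y
  have h1 := germ_mem_nonZeroDivisors V.2 hnzd y hyV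
  erw [TopCat.Presheaf.germ_res_apply] at h1
  have h2 := congrArg (Y.presheaf.germ W y hy) h
  rw [map_mul, map_mul, TopCat.Presheaf.germ_res_apply] at h2
  change Y.presheaf.germ W y hy p = Y.presheaf.germ W y hy q
  exact sub_eq_zero.mp (mem_nonZeroDivisors_iff_right.mp h1 _ (by linear_combination h2))

lemma exists_quotient (hg : BlowUp.IsEffCartierIdeal ((Curv2.idealSheaf A I).comap g)) {a₀ : A}
    (ha₀ : a₀ ∈ I) (hsq : ∀ x ∈ I, ∀ y ∈ I, ∃ z ∈ I, x * y = a₀ * z) (x : A) (hx : x ∈ I) :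
    ∃ q : Γ(Y, ⊤), σ g x = σ g a₀ * q := by
  choose V hy _ hdvd using fun y => exists_chart hg ha₀ hsq y
  choose q hq using fun y => hdvd y x hx
  have hcompat : TopCat.Presheaf.IsCompatible Y.sheaf.1 (fun y => (V y).1) q := by
    intro y z
    apply cancel hg ha₀ hsq
    have key : ∀ (w : Y) (i : (V y).1 ⊓ (V z).1 ⟶ (V w).1),
        (Y.presheaf.map (homOfLE (le_top : (V y).1 ⊓ (V z).1 ≤ ⊤)).op) (σ g a₀) *
          (Y.presheaf.map i.op) (q w) =
        (Y.presheaf.map (homOfLE (le_top : (V y).1 ⊓ (V z).1 ≤ ⊤)).op) (σ g x) := by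
      intro w i
      have := congrArg (Y.presheaf.map i.op) (hq w)
      rw [map_mul, ← ConcreteCategory.comp_apply, ← ConcreteCategory.comp_apply, ← Functor.map_comp] at this
      exact this.symm
    exact (key y _).trans (key z _).symm
  obtain ⟨s, hs, -⟩ := TopCat.Sheaf.existsUnique_gluing' Y.sheaf (fun y => (V y).1) ⊤
    (fun y => homOfLE le_top) (fun y _ => Opens.mem_iSup.mpr ⟨y, hy y⟩) q hcompat
  refine ⟨s, TopCat.Sheaf.eq_of_locally_eq' Y.sheaf (fun y => (V y).1) ⊤ (fun y => homOfLE le_top)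
    (fun y _ => Opens.mem_iSup.mpr ⟨y, hy y⟩) _ _ fun y => ?_⟩
  refine (hq y).trans ?_
  erw [map_mul]
  exact congrArg _ (hs y).symm

end

lemma isBlowUp_Spec (A B : Type u) [CommRing A] [CommRing B] [Algebra A B]
    (hinj : Function.Injective (algebraMap A B)) (I : Ideal A)
    (hIB : (Ideal.map (algebraMap A B) I : Set B) ⊆ algebraMap A B '' (I : Set A))
    (f : B) (hf : f ∈ nonZeroDivisors B) (hgen : Ideal.map (algebraMap A B) I = Ideal.span {f}) :
    BlowUp.IsBlowUp (Spec.map (CommRingCat.ofHom (algebraMap A B))) (Curv2.idealSheaf A I) := by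
  obtain ⟨a₀, ha₀, rfl⟩ := hIB (hgen ▸ Ideal.mem_span_singleton_self f : f ∈ I.map (algebraMap A B))
  have hmul : ∀ b : B, ∃ x ∈ I, algebraMap A B x = b * algebraMap A B a₀ := fun b => by
    obtain ⟨x, hx, e⟩ := hIB ((I.map (algebraMap A B)).mul_mem_left b (Ideal.mem_map_of_mem _ ha₀))
    exact ⟨x, hx, e⟩
  have hsq : ∀ x ∈ I, ∀ y ∈ I, ∃ z ∈ I, x * y = a₀ * z := by
    intro x hx y hy
    obtain ⟨c, hc⟩ := Ideal.mem_span_singleton.mp (hgen ▸ Ideal.mem_map_of_mem (algebraMap A B) hx)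
    obtain ⟨z, hz, e⟩ := hIB ((I.map (algebraMap A B)).mul_mem_left c (Ideal.mem_map_of_mem _ hy))
    exact ⟨z, hz, hinj (by rw [map_mul, map_mul, hc, e]; ring)⟩
  refine ⟨fun x => ⟨⟨⊤, isAffineOpen_top _⟩, trivial, (Scheme.ΓSpecIso (CommRingCat.of B)).inv (algebraMap A B a₀), ?_, ?_⟩, ?_⟩
  · exact MulEquivClass.map_nonZeroDivisors (Scheme.ΓSpecIso (CommRingCat.of B)).symm.commRingCatIsoToRingEquiv ▸
      Submonoid.mem_map_of_mem _ hf
  · rw [ideal_comap_idealSheaf]
    have : ((((Spec (CommRingCat.of B)).presheaf.map (homOfLE (le_top : (⊤ : (Spec (CommRingCat.of B)).Opens) ≤ ⊤)).op).hom).comp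
        (σ (Spec.map (CommRingCat.ofHom (algebraMap A B))))) =
        ((Scheme.ΓSpecIso (CommRingCat.of B)).inv.hom).comp (algebraMap A B) := by
      rw [σ, ← Scheme.ΓSpecIso_inv_naturality, ← CommRingCat.hom_comp]
      erw [(Spec (CommRingCat.of B)).presheaf.map_id, Category.comp_id]
      rfl
    rw [this, ← Ideal.map_map, hgen, Ideal.map_span, Set.image_singleton]
  · intro Y g hg
    choose X hX hXe using hmul
    choose q hq using fun b => exists_quotient hg ha₀ hsq (X b) (hX b)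
    have hc : ∀ p p' : Γ(Y, ⊤), σ g a₀ * p = σ g a₀ * p' → p = p' := fun p p' h => by
      refine cancel hg ha₀ hsq ⊤ p p' ?_
      have e : ∀ r : Γ(Y, ⊤), Y.presheaf.map (homOfLE (le_top : (⊤ : Y.Opens) ≤ ⊤)).op r = r := fun r => by
        rw [show (homOfLE (le_top : (⊤ : Y.Opens) ≤ ⊤)).op = 𝟙 _ from rfl, Y.presheaf.map_id]; rfl
      rw [e]; exact h
    have hchar : ∀ (b : B) (x : A), algebraMap A B x = b * algebraMap A B a₀ → σ g a₀ * q b = σ g x := by
      intro b x hx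
      rw [← hq b, hinj ((hXe b).trans hx.symm)]
    have hX0 : ∀ b b' : B, σ g a₀ * q (b * b') = σ g a₀ * (q b * q b') := fun b b' => by
      apply hc
      have e : X b * X b' = a₀ * X (b * b') := hinj (by simp only [map_mul, hXe]; ring)
      calc σ g a₀ * (σ g a₀ * q (b * b')) = σ g (a₀ * X (b * b')) := by rw [← hq, map_mul]
        _ = σ g (X b * X b') := by rw [e]
        _ = σ g a₀ * (σ g a₀ * (q b * q b')) := by rw [map_mul, hq b, hq b']; ring
    let ψ : B →+* Γ(Y, ⊤) :=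
      { toFun := q
        map_one' := hc _ _ (by rw [hchar 1 a₀ (one_mul _).symm, mul_one])
        map_mul' b b' := hc _ _ (hX0 b b')
        map_zero' := hc _ _ (by rw [hchar 0 0 (by rw [map_zero, zero_mul]), map_zero, mul_zero])
        map_add' b b' := hc _ _ (by
          rw [hchar (b + b') (X b + X b') (by rw [map_add, hXe, hXe]; ring), map_add, hq b, hq b', mul_add]) }
    have hψ : ψ.comp (algebraMap A B) = σ g := RingHom.ext fun a => hc _ _ (by
      change σ g a₀ * q (algebraMap A B a) = _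
      rw [hchar (algebraMap A B a) (a * a₀) (map_mul _ _ _), map_mul, mul_comm])
    refine ⟨Y.toSpecΓ ≫ Spec.map (CommRingCat.ofHom ψ), ?_, fun h hh => ?_⟩
    · change (Y.toSpecΓ ≫ Spec.map (CommRingCat.ofHom ψ)) ≫ Spec.map (CommRingCat.ofHom (algebraMap A B)) = g
      rw [Category.assoc, ← Spec.map_comp, ← CommRingCat.ofHom_comp, hψ]
      exact (eq_toSpecΓ_comp g).symm
    · rw [eq_toSpecΓ_comp h]
      congr 2
      ext b
      apply hc
      let χ := ((Scheme.ΓSpecIso (CommRingCat.of B)).inv ≫ h.appTop).hom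
      have hχ : ∀ a, χ (algebraMap A B a) = σ g a := fun a => by
        have hh' : h ≫ Spec.map (CommRingCat.ofHom (algebraMap A B)) = g := hh
        simp only [σ, χ, ← hh', Scheme.Hom.comp_appTop]
        rw [← Category.assoc, ← Scheme.ΓSpecIso_inv_naturality]
        rfl
      change σ g a₀ * χ b = σ g a₀ * q b
      rw [hchar b (X b) (hXe b), ← hχ (X b), hXe, map_mul, hχ, mul_comm]

end Groth.Agent.MeroX
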