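import Groth.Agent.MeroX.Basic
import Mathlib.AlgebraicGeometry.Morphisms.QuasiCompact
import Mathlib.AlgebraicGeometry.Noetherian
import Mathlib.RingTheory.Ideal.AssociatedPrime.Finiteness

/-!
# Sections of the sheaf of meromorphic functions
-/

set_option autoImplicit false
set_option backward.isDefEq.respectTransparency false
set_option backward.isDefEq.respectTransparency.types false

universe u

open CategoryTheory AlgebraicGeometry TopologicalSpace Opposite

namespace Groth.Agent.MeroX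

variable {X : Scheme.{u}}

theorem mk_eq_zero_iff {x : X} (g : X.presheaf.stalk x) (b : Mero.regStalk X x) :
    (LocalizedModule.mk g b : Mero.KStalk X x) = 0 ↔ g = 0 := by
  refine ⟨fun h => ?_, fun h => by rw [h, LocalizedModule.zero_mk]⟩
  rw [← LocalizedModule.zero_mk b, LocalizedModule.mk_eq] at h
  obtain ⟨c, hc⟩ := h
  simp only [Submonoid.smul_def, smul_eq_mul, mul_zero] at hc
  rw [← mul_assoc, mul_comm] at hc
  exact mem_nonZeroDivisors_iff_right.1 (Submonoid.mul_mem _ (Mero.regStalk_le_nonZeroDivisors x c.2)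
    (Mero.regStalk_le_nonZeroDivisors x b.2)) _ hc

theorem ext_kmod {U : X.Opens} {f g : Γ(Mero.kmod X, U)} (h : ∀ y : U, f.1 y = g.1 y) : f = g :=
  Subtype.ext (funext h)

theorem toK_mul_apply {U : X.Opens} (r : Γ(X, U)) (f : Γ(Mero.kmod X, U)) (y : U) :
    (Mero.toK X U r * f).1 y = LocalizedModule.mk (X.presheaf.germ U y.1 y.2 r) 1 * f.1 y := rfl

theorem toK_injective (U : X.Opens) : Function.Injective (Mero.toK X U) := by
  refine (injective_iff_map_eq_zero _).2 fun r hr => TopCat.Presheaf.section_ext X.sheaf U r 0 fun y hy => ?_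
  exact ((mk_eq_zero_iff _ _).1 (congrArg (fun t => t.1 ⟨y, hy⟩) hr)).trans
    (map_zero (X.presheaf.germ U y hy).hom).symm

/-- On an affine open a meromorphic function vanishing on a basic open is killed by a power. -/
theorem pow_mul_eq_zero {U : X.Opens} (hU : IsCompact (U : Set X)) (h : Γ(X, U)) (f : Γ(Mero.kmod X, U))
    (hf : ∀ y : U, y.1 ∈ X.basicOpen h → f.1 y = 0) : ∃ n : ℕ, Mero.toK X U h ^ n * f = 0 := by
  have loc : ∀ x : U, ∃ (W : X.Opens) (hWU : W ≤ U) (n : ℕ), x.1 ∈ W ∧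
      ∀ m, n ≤ m → ∀ y : W, (Mero.toK X U h ^ m * f).1 ⟨y.1, hWU y.2⟩ = 0 := by
    intro x
    obtain ⟨W₀, hxW₀, i, a, b, hab⟩ := f.2 x
    obtain ⟨_, ⟨W, hW, rfl⟩, hxW, hWW₀⟩ :=
      X.isBasis_affineOpens.exists_subset_of_mem_open (show x.1 ∈ (W₀ : Set X) from hxW₀) W₀.isOpen
    have hWU : W ≤ U := le_trans hWW₀ i.le
    let a' := X.presheaf.map (homOfLE hWW₀).op a
    let h' := X.presheaf.map (homOfLE hWU).op h
    have hzero : X.presheaf.map (homOfLE (X.basicOpen_le h')).op a' = 0 := by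
      refine TopCat.Presheaf.section_ext X.sheaf (X.basicOpen h') _ 0 fun y hy => ?_
      refine Eq.trans ?_ (map_zero (X.presheaf.germ (X.basicOpen h') y hy).hom).symm
      have hyW : y ∈ W := X.basicOpen_le h' hy
      show X.presheaf.germ (X.basicOpen h') y hy (X.presheaf.map (homOfLE _).op a') = 0
      rw [TopCat.Presheaf.germ_res_apply]
      have hyU : y ∈ X.basicOpen h := (X.basicOpen_res h (homOfLE hWU).op ▸ hy : y ∈ W ⊓ X.basicOpen h).2
      exact (X.presheaf.germ_res_apply (homOfLE hWW₀) y hyW a).trans ((mk_eq_zero_iff _ _).1 ((hab ⟨y, hWW₀ hyW⟩).symm.trans (hf ⟨y, hWU hyW⟩ hyU)))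
    obtain ⟨n, hn⟩ := exists_pow_mul_eq_zero_of_res_basicOpen_eq_zero_of_isCompact X hW.isCompact a' h' hzero
    refine ⟨W, hWU, n, hxW, fun m hm y => ?_⟩
    have hy : f.1 ⟨y.1, hWU y.2⟩ = _ := hab ⟨y.1, hWW₀ y.2⟩
    rw [← map_pow, toK_mul_apply, hy]
    refine LocalizedModule.mk_mul_mk.trans ((mk_eq_zero_iff _ _).2 ?_)
    have h2 := congrArg (X.presheaf.germ W y.1 y.2) hn
    simp only [a', h', map_mul, map_pow, map_zero, TopCat.Presheaf.germ_res_apply] at h2
    erw [X.presheaf.germ_res_apply] at h2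
    rw [map_pow, ← Nat.sub_add_cancel hm, pow_add, mul_assoc]
    exact mul_eq_zero_of_right _ h2
  choose W hWU n hxW hn using loc
  obtain ⟨t, ht⟩ := hU.elim_finite_subcover (fun x : U => (W x : Set X)) (fun x => (W x).2)
    (fun y hy => Set.mem_iUnion.2 ⟨⟨y, hy⟩, hxW ⟨y, hy⟩⟩)
  refine ⟨t.sup n, ext_kmod fun y => ?_⟩
  obtain ⟨x, hx, hyW⟩ := Set.mem_iUnion₂.1 (ht y.2)
  exact hn x _ (Finset.le_sup (f := n) hx) ⟨y.1, hyW⟩

theorem isUnit_toK {U : X.Opens} {b : Γ(X, U)} (hb : b ∈ Mero.regSub X U) : IsUnit (Mero.toK X U b) := by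
  refine .of_mul_eq_one ⟨fun y => LocalizedModule.mk (X.presheaf.germ U y.1 y.2 1) (Mero.regGerm y ⟨b, hb⟩),
    fun y => ⟨U, y.2, 𝟙 _, 1, ⟨b, hb⟩, fun z => rfl⟩⟩ (ext_kmod fun y => ?_)
  refine LocalizedModule.mk_mul_mk.trans ?_
  rw [Mero.kmod_one_apply, ← Mero.mk_self_eq_one (Mero.regGerm y ⟨b, hb⟩)]
  exact Mero.mk_congr (by rw [map_one, mul_one]) (by rw [one_mul])

/-- On a Noetherian affine open the meromorphic functions form the total ring of fractions. -/
theorem isLocalization_kmod [IsLocallyNoetherian X] {U : X.Opens} (hU : IsAffineOpen U) :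
    @IsLocalization Γ(X, U) _ (nonZeroDivisors Γ(X, U)) Γ(Mero.kmod X, U) _ (Mero.toK X U).toAlgebra := by
  haveI : IsNoetherianRing Γ(X, U) := IsLocallyNoetherian.component_noetherian ⟨U, hU⟩
  letI := (Mero.toK X U).toAlgebra
  refine ⟨fun b => ?_, fun f => ?_, fun {x y} h => ⟨1, ?_⟩⟩
  · exact isUnit_toK (by rw [regSub_eq_nonZeroDivisors hU]; exact b.2)
  · let I : Ideal Γ(X, U) :=
      { carrier := {r | ∃ c, Mero.toK X U r * f = Mero.toK X U c}
        zero_mem' := ⟨0, by rw [map_zero, zero_mul]⟩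
        add_mem' := fun {r r'} ⟨c, hc⟩ ⟨c', hc'⟩ => ⟨c + c', by rw [map_add, map_add, add_mul, hc, hc']⟩
        smul_mem' := fun s r ⟨c, hc⟩ => ⟨s * c, by rw [smul_eq_mul, map_mul, map_mul, mul_assoc, hc]⟩ }
    suffices hI : ∃ r ∈ I, r ∈ nonZeroDivisors Γ(X, U) by
      obtain ⟨r, ⟨c, hc⟩, hr⟩ := hI
      exact ⟨(c, ⟨r, hr⟩), (mul_comm f _).trans hc⟩
    by_contra hno
    push Not at hno
    have hsub : (I : Set Γ(X, U)) ⊆ ⋃ p ∈ ((associatedPrimes.finite Γ(X, U) Γ(X, U)).toFinset : Set (Ideal Γ(X, U))),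
        (p : Set Γ(X, U)) := fun r hr => by
      have := hno r hr
      rw [Set.Finite.coe_toFinset, biUnion_associatedPrimes_eq_compl_nonZeroDivisors]
      exact this
    obtain ⟨p, hp, hIp⟩ := (Ideal.subset_union_prime ⊥ ⊥ fun i hi _ _ =>
      ((Set.Finite.mem_toFinset _).1 hi).1).1 hsub
    obtain ⟨hp', m, hm⟩ := (Set.Finite.mem_toFinset _).1 hp
    let x : X := hU.fromSpec ⟨p, hp'⟩
    have hxU : x ∈ U := hU.range_fromSpec.subset ⟨⟨p, hp'⟩, rfl⟩
    have hpx : (hU.primeIdealOf ⟨x, hxU⟩).asIdeal = p :=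
      congrArg PrimeSpectrum.asIdeal (hU.fromSpec.isOpenEmbedding.injective (hU.fromSpec_primeIdealOf ⟨x, hxU⟩))
    letI := X.presheaf.algebra_section_stalk ⟨x, hxU⟩
    haveI := hU.isLocalization_stalk ⟨x, hxU⟩
    obtain ⟨W, hxW, i, a, b, hab⟩ := f.2 ⟨x, hxU⟩
    obtain ⟨g, hgW, hxg⟩ := hU.exists_basicOpen_le (V := W) ⟨x, hxW⟩ hxU
    haveI := hU.isLocalization_basicOpen g
    obtain ⟨k, α, hα⟩ := IsLocalization.Away.surj g (X.presheaf.map (homOfLE hgW).op a)
    obtain ⟨l, β, hβ⟩ := IsLocalization.Away.surj g (X.presheaf.map (homOfLE hgW).op b.1)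
    let r := g ^ k * β
    let c := α * g ^ l
    have key : ∀ y : U, y.1 ∈ X.basicOpen g → (Mero.toK X U r * f - Mero.toK X U c).1 y = 0 := by
      intro y hy
      have hA := congrArg (X.presheaf.germ (X.basicOpen g) y.1 hy) hα
      have hB := congrArg (X.presheaf.germ (X.basicOpen g) y.1 hy) hβ
      simp only [RingHom.algebraMap_toAlgebra, map_mul, map_pow, TopCat.Presheaf.germ_res_apply] at hA hB
      show (Mero.toK X U r * f).1 y - (Mero.toK X U c).1 y = 0
      rw [sub_eq_zero, toK_mul_apply, show f.1 y = _ from hab ⟨y.1, hgW hy⟩]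
      refine LocalizedModule.mk_mul_mk.trans (LocalizedModule.mk_eq.2 ⟨1, ?_⟩)
      simp only [one_smul, one_mul, Submonoid.smul_def, smul_eq_mul, r, c, map_mul, map_pow]
      rw [← hA, ← hB]
      ring
    obtain ⟨n, hn⟩ := pow_mul_eq_zero hU.isCompact g _ key
    have hrI : g ^ n * r ∈ I := ⟨g ^ n * c, by
      rw [← sub_eq_zero, ← hn]
      simp only [r, map_mul, map_pow]
      ring⟩
    have hgp : g ∉ p := fun hg => by
      rw [← hpx] at hg
      have h1 : IsUnit (algebraMap Γ(X, U) (X.presheaf.stalk x) g) := (X.mem_basicOpen g x hxU).1 hxg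
      rw [IsLocalization.AtPrime.isUnit_to_map_iff (X.presheaf.stalk x) (hU.primeIdealOf ⟨x, hxU⟩).asIdeal] at h1
      exact h1 hg
    have hβp : β ∈ p := by
      rcases hp'.mem_or_mem (hIp hrI) with h1 | h1
      · exact absurd (hp'.mem_of_pow_mem n h1) hgp
      · rcases hp'.mem_or_mem h1 with h2 | h2
        · exact absurd (hp'.mem_of_pow_mem k h2) hgp
        · exact h2
    rw [hm] at hβp
    obtain ⟨N, hN⟩ := hβp
    rw [Submodule.mem_colon_singleton, Submodule.mem_bot, smul_eq_mul] at hN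
    have hB := congrArg (X.presheaf.germ (X.basicOpen g) x hxg) hβ
    simp only [RingHom.algebraMap_toAlgebra, map_mul, map_pow, TopCat.Presheaf.germ_res_apply] at hB
    have hβnzd : X.presheaf.germ U x hxU β ∈ nonZeroDivisors (X.presheaf.stalk x) := by
      rw [← hB]
      exact Submonoid.mul_mem _ (b.2 ⟨x, hgW hxg⟩) (Submonoid.pow_mem _
        (((X.mem_basicOpen g x hxU).1 hxg).mem_nonZeroDivisors) l)
    have hm0 : algebraMap Γ(X, U) (X.presheaf.stalk x) m = 0 := by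
      refine mem_nonZeroDivisors_iff_right.1 (Submonoid.pow_mem _ hβnzd N) _ ?_
      show X.presheaf.germ U x hxU m * X.presheaf.germ U x hxU β ^ N = 0
      rw [← map_pow, ← map_mul, mul_comm, hN, map_zero]
    obtain ⟨⟨s, hs⟩, hsm⟩ := (IsLocalization.map_eq_zero_iff (hU.primeIdealOf ⟨x, hxU⟩).asIdeal.primeCompl _ _).1 hm0
    refine hs ?_
    rw [hpx, hm]
    exact Ideal.le_radical (Submodule.mem_colon_singleton.2 ((Submodule.mem_bot _).2 hsm))
  · rw [toK_injective U h]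

end Groth.Agent.MeroX
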