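import Groth.Agent.AssPtX.Regular
import Mathlib.AlgebraicGeometry.Properties
import Mathlib.Topology.Sober

/-!
# Weakly associated points of a scheme and schematically dense opens
-/

set_option autoImplicit false
set_option backward.isDefEq.respectTransparency false
set_option backward.isDefEq.respectTransparency.types false
set_option linter.style.haveILetI false

universe u

open CategoryTheory AlgebraicGeometry TopologicalSpace

namespace Groth.Agent.MeroX

open Groth.Agent

variable {X : Scheme.{u}}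

/-- The weakly associated points of `X`. -/
abbrev AssX (x : X) : Prop := Curv2.IsWeakAssPoint (Coh.structureModule X) x

/-- Every affine open has finitely many weakly associated points. -/
def FinAss (X : Scheme.{u}) : Prop :=
  ∀ V : X.Opens, IsAffineOpen V → {x : X | x ∈ V ∧ AssX x}.Finite

/-- No weakly associated point is a proper generization of another. -/
def Inc (X : Scheme.{u}) : Prop := ∀ x y : X, AssX x → AssX y → y ⤳ x → y = x

theorem finAss_of_isLocallyNoetherian [IsLocallyNoetherian X] : FinAss X := fun V hV => by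
  refine (AssPtX.finite_assPoints (F := Coh.structureModule X) ?_ hV.isCompact).subset
    fun x hx => ⟨hx.1, AssPtX.isAssPoint_iff.2 hx.2⟩
  exact QCoh.isCoh_iff.2 ⟨QCoh.isQCoh_structureModule, fun W => (inferInstance : Module.Finite Γ(X, W.1) Γ(X, W.1))⟩

theorem eq_of_ass_of_reduced [IsReduced X] {x y : X} (hx : AssX x) (h : y ⤳ x) : y = x :=
  (AssPtX.isWeakAssPoint_structureModule_iff QCoh.isQCoh_structureModule x).1 hx y h

theorem inc_of_reduced [IsReduced X] : Inc X := fun _ _ hx _ h => eq_of_ass_of_reduced hx h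

/-- A weakly associated point without proper generizations in `V` is a generic point of `V`. -/
theorem finite_of_finite_components {V : X.Opens} (hfin : (irreducibleComponents (V : Scheme.{u})).Finite)
    (hmax : ∀ x ∈ V, AssX x → ∀ y : X, y ⤳ x → y = x) : {x : X | x ∈ V ∧ AssX x}.Finite := by
  refine Set.Finite.subset ((genericPoints.finite hfin).image Subtype.val) ?_
  rintro x ⟨hx, hxa⟩
  refine ⟨⟨x, hx⟩, ?_, rfl⟩
  show closure {(⟨x, hx⟩ : (V : Scheme.{u}))} ∈ irreducibleComponents (V : Scheme.{u})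
  refine ⟨isIrreducible_singleton.closure, fun Z hZ hle => ?_⟩
  obtain ⟨η, hη⟩ := QuasiSober.sober (IsIrreducible.closure hZ) isClosed_closure
  have h1 : η ⤳ (⟨x, hx⟩ : (V : Scheme.{u})) := hη.specializes (subset_closure (hle (subset_closure rfl)))
  have h2 : η = ⟨x, hx⟩ := Subtype.ext (hmax x hx hxa η.1 (h1.map continuous_subtype_val))
  intro z hz
  rw [← h2]
  exact (hη.def ▸ subset_closure hz : z ∈ closure {η})

theorem mem_ass_of_max {x : X} (hx : ∀ y : X, y ⤳ x → y = x) : AssX x := by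
  refine AssPtX.isWeakAssPoint_of_maximal QCoh.isQCoh_structureModule ?_ fun y _ hy => hx y hy
  intro hss
  obtain ⟨V, hV, hxV, -⟩ := exists_isAffineOpen_mem_and_subset (x := x) (U := ⊤) trivial
  obtain ⟨f, hf, hf'⟩ := (QCoh.subsingleton_stalk_iff QCoh.isQCoh_structureModule hV hxV).1 hss
    (show Γ(Coh.structureModule X, V) from (1 : Γ(X, V)))
  have : f = 0 := (mul_one f).symm.trans hf'
  rw [this, Scheme.basicOpen_zero] at hf
  exact hf

/-- Every point has a weakly associated generization. -/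
theorem exists_ass_specializes (x : X) : ∃ y : X, y ⤳ x ∧ AssX y ∧ ∀ z : X, z ⤳ y → z = y := by
  obtain ⟨V, hV, hxV, -⟩ := exists_isAffineOpen_mem_and_subset (x := x) (U := ⊤) trivial
  obtain ⟨q, hq, hqle⟩ := Ideal.exists_minimalPrimes_le (bot_le : ⊥ ≤ (hV.primeIdealOf ⟨x, hxV⟩).asIdeal)
  obtain ⟨y, hy, hyq⟩ := QCoh.exists_point hV ⟨q, hq.1.1⟩
  have hyq' : (hV.primeIdealOf ⟨y, hy⟩).asIdeal = q := by rw [hyq]
  have hmax : ∀ z : X, z ⤳ y → z = y := fun z hz => by
    have hzV : z ∈ V := hz.mem_open V.2 hy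
    have h1 := (AssPtX.primeIdealOf_le_iff hV hzV hy).2 hz
    rw [hyq'] at h1
    have h2 := hq.2 ⟨(hV.primeIdealOf ⟨z, hzV⟩).isPrime, bot_le⟩ h1
    exact ((AssPtX.primeIdealOf_le_iff hV hy hzV).1 (hyq' ▸ h2)).antisymm hz |>.eq.symm
  exact ⟨y, (AssPtX.primeIdealOf_le_iff hV hy hxV).1 (hyq' ▸ hqle), mem_ass_of_max hmax, hmax⟩

/-- A function vanishing at all weakly associated points vanishes. -/
theorem eq_zero_of_ass {U : X.Opens} (r : Γ(X, U))
    (h : ∀ (y : X) (hy : y ∈ U), AssX y → X.presheaf.germ U y hy r = 0) : r = 0 := by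
  refine AssPtX.eq_zero_of_germ (F := Coh.structureModule X) QCoh.isQCoh_structureModule r fun z hz hza => ?_
  obtain ⟨W, hzW, i, j, hW⟩ := TopCat.Presheaf.germ_eq X.presheaf z hz hz r 0
    ((h z hz hza).trans (map_zero _).symm)
  rw [map_zero] at hW
  rw [← (Coh.structureModule X).presheaf.germ_res_apply i z hzW]
  exact (congrArg _ hW).trans (map_zero ((Coh.structureModule X).presheaf.germ W z hzW).hom)

/-- A nonempty open contains a weakly associated point. -/
theorem eq_bot_of_no_ass {W : X.Opens} (h : ∀ y ∈ W, ¬ AssX y) : W = ⊥ :=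
  eq_bot_iff.2 fun x hx => by
    have h1 : (1 : Γ(X, W)) = 0 := eq_zero_of_ass _ fun y hy hya => absurd hya (h y hy)
    have h2 := congrArg (X.presheaf.germ W x hx) h1
    rw [map_one, map_zero] at h2
    exact absurd h2 one_ne_zero

/-- A nonzerodivisor at a weakly associated point is a unit. -/
theorem isUnit_of_ass {x : X} (hx : AssX x) {g : X.presheaf.stalk x}
    (hg : g ∈ nonZeroDivisors (X.presheaf.stalk x)) : IsUnit g := by
  obtain ⟨V, hV, hxV, -⟩ := exists_isAffineOpen_mem_and_subset (x := x) (U := ⊤) trivial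
  letI := QCoh.stalkAlg (X := X) hxV
  haveI := QCoh.isLocalization_stalk' hV hxV
  obtain ⟨t, ht⟩ := WeakAss.mem_weakAss_iff.1
    ((AssPtX.isWeakAssPoint_iff_sections QCoh.isQCoh_structureModule hV hxV).1 hx)
  obtain ⟨⟨a, s⟩, rfl⟩ := IsLocalization.mk'_surjective (hV.primeIdealOf ⟨x, hxV⟩).asIdeal.primeCompl g
  rw [IsLocalization.AtPrime.isUnit_mk'_iff (X.presheaf.stalk x) (hV.primeIdealOf ⟨x, hxV⟩).asIdeal]
  by_contra hap
  rw [Ideal.mem_primeCompl_iff, not_not] at hap
  obtain ⟨c, hc, n, hn⟩ := WeakAss.exists_mul_pow_mem ht hap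
  have hn' : c * a ^ n * (show Γ(X, V) from t) = 0 := WeakAss.mem_annEl.1 hn
  have h2 : algebraMap Γ(X, V) (X.presheaf.stalk x) (show Γ(X, V) from t) = 0 := by
    have h3 := congrArg (algebraMap Γ(X, V) (X.presheaf.stalk x)) hn'
    rw [map_mul, map_mul, map_pow, map_zero] at h3
    have hcu : IsUnit (algebraMap Γ(X, V) (X.presheaf.stalk x) c) :=
      IsLocalization.map_units (X.presheaf.stalk x) (⟨c, hc⟩ : (hV.primeIdealOf ⟨x, hxV⟩).asIdeal.primeCompl)
    rw [mul_assoc, hcu.mul_right_eq_zero] at h3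
    have hga : algebraMap Γ(X, V) (X.presheaf.stalk x) a ∈ nonZeroDivisors (X.presheaf.stalk x) := by
      have h4 : algebraMap Γ(X, V) (X.presheaf.stalk x) a =
          IsLocalization.mk' (X.presheaf.stalk x) a s * algebraMap Γ(X, V) (X.presheaf.stalk x) s :=
        (IsLocalization.mk'_spec _ a s).symm
      rw [h4]
      exact mul_mem hg (IsLocalization.map_units (X.presheaf.stalk x) s).mem_nonZeroDivisors
    exact mem_nonZeroDivisors_iff_right.1 (pow_mem hga n) _ (by rw [mul_comm]; exact h3)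
  obtain ⟨⟨d, hd⟩, hd'⟩ := (IsLocalization.map_eq_zero_iff (hV.primeIdealOf ⟨x, hxV⟩).asIdeal.primeCompl _ _).1 h2
  exact hd (ht.1.2 (WeakAss.mem_annEl.2 hd'))

theorem isUnit_germ_of_regSub {U : X.Opens} {f : Γ(X, U)} (hf : f ∈ Mero.regSub X U) {y : X} (hy : y ∈ U)
    (hya : AssX y) : IsUnit (X.presheaf.germ U y hy f) :=
  isUnit_of_ass hya (hf ⟨y, hy⟩)

/-- Prime avoidance: a regular function whose basic open lies in an open containing the associated points. -/
theorem exists_regular_le (hfin : FinAss X) {V : X.Opens} (hV : IsAffineOpen V) {W : X.Opens}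
    (hW : ∀ y ∈ V, AssX y → y ∈ W) : ∃ f ∈ Mero.regSub X V, X.basicOpen f ≤ W := by
  let S := {x : X | x ∈ V ∧ AssX x}
  let I : Ideal Γ(X, V) := Ideal.span {g | X.basicOpen g ≤ W}
  by_contra hno
  push Not at hno
  let P : S → Ideal Γ(X, V) := fun y => (hV.primeIdealOf ⟨y.1, y.2.1⟩).asIdeal
  haveI : Fintype S := (hfin V hV).fintype
  have hIW : ∀ f ∈ I, X.basicOpen f ≤ W := by
    intro f hf z hz
    have hzV : z ∈ V := X.basicOpen_le f hz
    have hfz : f ∉ (hV.primeIdealOf ⟨z, hzV⟩).asIdeal := (QCoh.mem_basicOpen_iff_notMem hV hzV f).1 hz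
    by_contra hzW
    refine hfz (Ideal.span_le.2 (fun g hg => ?_) hf)
    by_contra hgz
    exact hzW (hg ((QCoh.mem_basicOpen_iff_notMem hV hzV g).2 hgz))
  have hsub : (I : Set Γ(X, V)) ⊆ ⋃ y ∈ ((Finset.univ : Finset S) : Set S), (P y : Set Γ(X, V)) := by
    intro f hf
    by_contra hfn
    refine hno f (AssPtX.germ_mem_nonZeroDivisors_of_weakAss f fun z hz hza => ?_) (hIW f hf)
    refine (X.mem_basicOpen f z hz).1 ((QCoh.mem_basicOpen_iff_notMem hV hz f).2 fun hfz => hfn ?_)
    exact Set.mem_iUnion₂.2 ⟨⟨z, hz, hza⟩, Finset.mem_coe.2 (Finset.mem_univ _), hfz⟩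
  obtain ⟨y₀, -, -⟩ := Set.mem_iUnion₂.1 (hsub I.zero_mem)
  obtain ⟨y, -, hy⟩ := (Ideal.subset_union_prime (s := Finset.univ) (f := P) y₀ y₀
    fun i _ _ _ => inferInstance).1 hsub
  obtain ⟨g, hgW, hyg⟩ := hV.exists_basicOpen_le ⟨y.1, hW y.1 y.2.1 y.2.2⟩ y.2.1
  exact (QCoh.mem_basicOpen_iff_notMem hV y.2.1 g).1 hyg (hy (Ideal.subset_span hgW))

/-- An open neighbourhood of an associated point containing no other associated point. -/
theorem exists_isolating (hfin : FinAss X) (hinc : Inc X) (ξ : X) (hξ : AssX ξ) :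
    ∃ W : X.Opens, ξ ∈ W ∧ ∀ y ∈ W, AssX y → y = ξ := by
  obtain ⟨V, hV, hξV, -⟩ := exists_isAffineOpen_mem_and_subset (x := ξ) (U := ⊤) trivial
  have hC : IsClosed (⋃ η ∈ {x : X | x ∈ V ∧ AssX x} \ {ξ}, closure ({η} : Set X)) :=
    ((hfin V hV).subset Set.sdiff_subset).isClosed_biUnion fun _ _ => isClosed_closure
  refine ⟨V ⊓ ⟨_, hC.isOpen_compl⟩, ⟨hξV, ?_⟩, fun y hy hya => ?_⟩
  · rintro hmem
    obtain ⟨η, ⟨⟨-, hηa⟩, hne⟩, hcl⟩ := Set.mem_iUnion₂.1 hmem
    exact hne (hinc ξ η hξ hηa (specializes_iff_mem_closure.2 hcl))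
  · by_contra hne
    exact hy.2 (Set.mem_iUnion₂.2 ⟨y, ⟨⟨hy.1, hya⟩, hne⟩, subset_closure rfl⟩)

end Groth.Agent.MeroX
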