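import Groth.Agent.MeroX.HasRegular
import Groth.Agent.MeroX.Kmod

/-!
# Meromorphic functions prescribed at the associated points
-/

set_option autoImplicit false
set_option backward.isDefEq.respectTransparency false
set_option backward.isDefEq.respectTransparency.types false
set_option linter.style.haveILetI false

universe u

open CategoryTheory AlgebraicGeometry TopologicalSpace

namespace Groth.Agent.MeroX

open Groth.Agent Groth.Agent.AModX

variable {X : Scheme.{u}}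

/-- At a point without proper generizations every non-unit germ of a function is nilpotent. -/
theorem isNilpotent_of_not_isUnit {x : X} (hx : ∀ y : X, y ⤳ x → y = x) {g : X.presheaf.stalk x}
    (hg : ¬ IsUnit g) : IsNilpotent g := by
  obtain ⟨V, hV, hxV, -⟩ := exists_isAffineOpen_mem_and_subset (x := x) (U := ⊤) trivial
  letI := QCoh.stalkAlg (X := X) hxV
  haveI := QCoh.isLocalization_stalk' hV hxV
  let p := (hV.primeIdealOf ⟨x, hxV⟩).asIdeal
  obtain ⟨⟨a, s⟩, rfl⟩ := IsLocalization.mk'_surjective p.primeCompl g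
  rw [IsLocalization.AtPrime.isUnit_mk'_iff (X.presheaf.stalk x) p, Ideal.mem_primeCompl_iff, not_not] at hg
  have hp : p ∈ (⊥ : Ideal Γ(X, V)).minimalPrimes := by
    refine ⟨⟨inferInstance, bot_le⟩, fun q hq hqp => ?_⟩
    obtain ⟨y, hy, hyq⟩ := QCoh.exists_point hV ⟨q, hq.1⟩
    have h1 : y ⤳ x := (AssPtX.primeIdealOf_le_iff hV hy hxV).1 (by rw [hyq]; exact hqp)
    obtain rfl := hx y h1
    exact (congrArg PrimeSpectrum.asIdeal hyq).le
  obtain ⟨t, ht, n, hn⟩ := WeakAss.exists_mul_pow_mem hp hg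
  refine ⟨n, ?_⟩
  rw [← IsLocalization.mk'_pow, IsLocalization.mk'_eq_zero_iff]
  exact ⟨⟨t, ht⟩, Ideal.mem_bot.1 hn⟩

theorem isField_stalk [IsReduced X] {x : X} (hx : ∀ y : X, y ⤳ x → y = x) : IsField (X.presheaf.stalk x) :=
  ⟨⟨0, 1, zero_ne_one⟩, mul_comm, fun {g} hg => by
    by_cases hu : IsUnit g
    · exact ⟨↑hu.unit⁻¹, hu.mul_val_inv⟩
    · exact absurd (isNilpotent_of_not_isUnit hx hu).eq_zero hg⟩

/-- At an associated point every meromorphic germ is a germ. -/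
theorem algebraMap_bijective {x : X} (hx : AssX x) :
    Function.Bijective (algebraMap (X.presheaf.stalk x) (Mero.KStalk X x)) := by
  refine ⟨Mero.algebraMap_KStalk_injective x, fun f => ?_⟩
  obtain ⟨r, s, rfl⟩ := IsLocalization.exists_mk'_eq (Mero.regStalk X x) f
  obtain ⟨v, hv⟩ := (isUnit_of_ass hx (Mero.regStalk_le_nonZeroDivisors x s.2))
  refine ⟨r * ↑v⁻¹, ?_⟩
  rw [IsLocalization.eq_mk'_iff_mul_eq, ← map_mul, mul_assoc, ← hv, Units.inv_mul, mul_one]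

/-- A meromorphic function with prescribed values at the associated points. -/
theorem exists_kmod_values (hfin : FinAss X) (hinc : Inc X) (U : X.Opens)
    (q : ∀ ξ : U, AssX ξ.1 → Mero.KStalk X ξ.1) :
    ∃ (W : X.Opens) (g : Γ(X, W)) (s : Γ(Mero.kmod X, U)), (∀ y ∈ U, AssX y → y ∈ W) ∧
      (∀ (y : U) (hyW : y.1 ∈ W), s.1 y = LocalizedModule.mk (X.presheaf.germ W y.1 hyW g) 1) ∧
      ∀ (ξ : U) (h : AssX ξ.1), s.1 ξ = q ξ h := by
  let ι := {ξ : U // AssX ξ.1}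
  choose A hA hAy using fun ξ : ι => exists_isolating hfin hinc ξ.1.1 ξ.2
  choose r hr using fun ξ : ι => (algebraMap_bijective ξ.2).2 (q ξ.1 ξ.2)
  choose B hB t ht using fun ξ : ι => X.presheaf.exists_germ_eq (r ξ)
  let W : ι → X.Opens := fun ξ => A ξ ⊓ B ξ
  have hdisj : ∀ i j : ι, i ≠ j → W i ⊓ W j = ⊥ := fun i j hij => eq_bot_of_no_ass fun y hy hya =>
    hij (Subtype.ext (Subtype.ext ((hAy i y hy.1.1 hya).symm.trans (hAy j y hy.2.1 hya))))
  obtain ⟨g, hg, -⟩ := TopCat.Sheaf.existsUnique_gluing' X.sheaf W (⨆ ξ, W ξ) (fun ξ => homOfLE (le_iSup W ξ))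
    le_rfl (fun ξ => resR (inf_le_right : W ξ ≤ B ξ) (t ξ)) (fun i j => by
      by_cases hij : i = j
      · subst hij; rfl
      · refine TopCat.Presheaf.section_ext X.sheaf _ _ _ fun p hp => ?_
        rw [hdisj i j hij] at hp
        exact hp.elim)
  have hmem : ∀ y ∈ U, AssX y → y ∈ ⨆ ξ, W ξ := fun y hy hya =>
    Opens.mem_iSup.2 ⟨⟨⟨y, hy⟩, hya⟩, hA ⟨⟨y, hy⟩, hya⟩, hB ⟨⟨y, hy⟩, hya⟩⟩
  obtain ⟨s, hs⟩ := exists_kmod_extend hfin hmem g
  refine ⟨_, g, s, hmem, hs, fun ξ h => ?_⟩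
  have hξ : ξ.1 ∈ W ⟨ξ, h⟩ := ⟨hA ⟨ξ, h⟩, hB ⟨ξ, h⟩⟩
  have h1 : X.presheaf.germ (⨆ η, W η) ξ.1 (le_iSup W ⟨ξ, h⟩ hξ) g =
      X.presheaf.germ (W ⟨ξ, h⟩) ξ.1 hξ (resR (inf_le_right : W ⟨ξ, h⟩ ≤ B ⟨ξ, h⟩) (t ⟨ξ, h⟩)) :=
    (X.presheaf.germ_res_apply (homOfLE (le_iSup W ⟨ξ, h⟩)) ξ.1 hξ g).symm.trans
      (congrArg (X.presheaf.germ (W ⟨ξ, h⟩) ξ.1 hξ) (hg ⟨ξ, h⟩))
  rw [hs ξ (le_iSup W ⟨ξ, h⟩ hξ), h1, germ_resR, ht ⟨ξ, h⟩, ← hr ⟨ξ, h⟩]
  rfl

/-- Regular germs are the nonzerodivisors when associated points have no proper generizations. -/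
theorem regStalk_eq_of_max (hfin : FinAss X) (hmax : ∀ x : X, AssX x → ∀ y : X, y ⤳ x → y = x) (x : X) :
    Mero.regStalk X x = nonZeroDivisors (X.presheaf.stalk x) := by
  refine le_antisymm (Mero.regStalk_le_nonZeroDivisors x) fun g hg => ?_
  obtain ⟨O, hxO, t, rfl⟩ := X.presheaf.exists_germ_eq g
  obtain ⟨V, hV, hxV, hVO⟩ := exists_isAffineOpen_mem_and_subset (x := x) (U := O) hxO
  have hC : IsClosed (⋃ η ∈ {z : X | z ∈ V ∧ AssX z ∧ ¬ z ⤳ x}, closure ({η} : Set X)) :=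
    ((hfin V hV).subset fun _ h => ⟨h.1, h.2.1⟩).isClosed_biUnion fun _ _ => isClosed_closure
  let D : X.Opens := V ⊓ ⟨_, hC.isOpen_compl⟩
  have hxD : x ∈ D := ⟨hxV, fun hmem => by
    obtain ⟨η, ⟨-, -, hne⟩, hcl⟩ := Set.mem_iUnion₂.1 hmem
    exact hne (specializes_iff_mem_closure.2 hcl)⟩
  have hDO : D ≤ O := inf_le_left.trans hVO
  refine ⟨D, hxD, resR hDO t, AssPtX.germ_mem_nonZeroDivisors_of_weakAss _ fun z hz hza => ?_, germ_resR hDO hxD t⟩
  have hzx : z ⤳ x := by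
    by_contra hn
    exact hz.2 (Set.mem_iUnion₂.2 ⟨z, ⟨hz.1, hza, hn⟩, subset_closure rfl⟩)
  rw [germ_resR]
  by_contra hu
  obtain ⟨n, hn⟩ := isNilpotent_of_not_isUnit (hmax z hza) hu
  obtain ⟨W, hzW, i, j, hW⟩ := TopCat.Presheaf.germ_eq X.presheaf z (hDO hz) (hDO hz) (t ^ n) 0
    (by rw [map_pow, map_zero]; exact hn)
  letI := QCoh.stalkAlg (X := X) hxV
  obtain ⟨c, hcW, hzc⟩ := hV.exists_basicOpen_le ⟨z, hzW⟩ hz.1
  have h2 : resR (X.basicOpen_le c) (resR hVO (t ^ n)) = 0 := by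
    rw [resR_resR, ← resR_resR i.le hcW]
    show resR hcW (X.presheaf.map i.op (t ^ n)) = 0
    rw [hW, map_zero, map_zero]
  haveI := hV.isLocalization_basicOpen c
  obtain ⟨⟨_, k, rfl⟩, hk⟩ := (IsLocalization.map_eq_zero_iff (Submonoid.powers c) Γ(X, X.basicOpen c) _).1
    (show algebraMap Γ(X, V) Γ(X, X.basicOpen c) (resR hVO (t ^ n)) = 0 from h2)
  have h3 := congrArg (X.presheaf.germ V x hxV) hk
  rw [map_mul, map_pow, germ_resR, map_pow, map_zero] at h3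
  have h4 : X.presheaf.germ V x hxV c ^ k = 0 := mem_nonZeroDivisors_iff_right.1 (pow_mem hg n) _ h3
  have h5 := congrArg (X.presheaf.stalkSpecializes hzx) h4
  simp only [map_pow, map_zero] at h5
  rw [TopCat.Presheaf.germ_stalkSpecializes_apply] at h5
  exact (((X.mem_basicOpen c z hz.1).1 hzc).pow k).ne_zero h5

/-- On affines, the meromorphic functions form the total ring of fractions. -/
theorem isLocalization_kmod_of_inc (hfin : FinAss X) (hinc : Inc X) {V : X.Opens} (hV : IsAffineOpen V) :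
    @IsLocalization Γ(X, V) _ (nonZeroDivisors Γ(X, V)) Γ(Mero.kmod X, V) _ (Mero.toK X V).toAlgebra := by
  letI := (Mero.toK X V).toAlgebra
  refine ⟨fun b => isUnit_toK (by rw [regSub_eq_nonZeroDivisors hV]; exact b.2), fun f => ?_,
    fun {x y} h => ⟨1, by rw [toK_injective V h]⟩⟩
  obtain ⟨W, g, s, hW, hs, hq⟩ := exists_kmod_values hfin hinc V fun ξ _ => f.1 ξ
  obtain ⟨a, b, hab⟩ := exists_frac hfin hV hW g
  refine ⟨(a, ⟨b.1, regSub_eq_nonZeroDivisors hV ▸ b.2⟩), ?_⟩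
  rw [← sub_eq_zero]
  refine ext_kmod fun y => kmod_eq_zero_of_ass _ (fun z hz => ?_) y
  show f.1 z * (LocalizedModule.mk (X.presheaf.germ V z.1 z.2 b.1) 1 : Mero.KStalk X z.1) -
    LocalizedModule.mk (X.presheaf.germ V z.1 z.2 a) 1 = 0
  rw [sub_eq_zero, ← hq z hz, hs z (hW z.1 z.2 hz)]
  refine LocalizedModule.mk_mul_mk.trans ?_
  exact Mero.mk_congr (by rw [mul_comm, hab z.1 z.2 (hW z.1 z.2 hz)]) (by rw [one_mul])

end Groth.Agent.MeroX
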