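import Groth.Agent.RelCurveDiv.Alg
import Groth.Agent.FlatX.RelCartier
import Groth.Agent.ModPairLib.Basic
import Groth.Prelude.Def_CurvBase
import Groth.Agent.RelCurveDiv.KerGerm
import Groth.Agent.Triage.SliceFlatSch

/-! Effective Cartier divisors detected on the fibres of a flat morphism. -/

noncomputable section

set_option linter.style.haveILetI false

universe u

open CategoryTheory CategoryTheory.Limits AlgebraicGeometry TopologicalSpace IsLocalRing

namespace Groth.Agent.MeroX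

open Groth.Agent FlatX

variable {X S : Scheme.{u}} (f : X ⟶ S) (I : X.IdealSheafData)

theorem flat_quot_loc {A B : Type u} [CommRing A] [CommRing B] [Algebra A B] (J : Ideal B) (M : Submonoid B)
    (C : Type u) [CommRing C] [Algebra A C] [Algebra B C] [IsScalarTower A B C] [IsLocalization M C]
    (h : Module.Flat A (B ⧸ J)) : Module.Flat A (C ⧸ J.map (algebraMap B C)) := by
  haveI : IsScalarTower A (B ⧸ J) (C ⧸ J.map (algebraMap B C)) := by
    refine IsScalarTower.of_algebraMap_eq fun x => ?_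
    change _ = Ideal.Quotient.mk _ (algebraMap B C (algebraMap A B x))
    rw [← IsScalarTower.algebraMap_apply]
    rfl
  haveI : Module.Flat (B ⧸ J) (C ⧸ J.map (algebraMap B C)) :=
    IsLocalization.flat _ (Algebra.algebraMapSubmonoid (B ⧸ J) M)
  exact Module.Flat.trans A (B ⧸ J) _

theorem flat_stalk_quotient' (hfl : Flat (I.subschemeι ≫ f)) (W : S.affineOpens) (U : X.affineOpens)
    (e : U.1 ≤ f ⁻¹ᵁ W.1) {x : X} (hxU : x ∈ U.1) :
    ((Ideal.Quotient.mk ((I.ideal U).map (X.presheaf.germ U.1 x hxU).hom)).comp (f.stalkMap x).hom).Flat := by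
  letI := (f.appLE W.1 U.1 e).hom.toAlgebra
  letI := X.presheaf.algebra_section_stalk ⟨x, hxU⟩
  haveI := U.2.isLocalization_stalk ⟨x, hxU⟩
  letI : Algebra Γ(S, W.1) (X.presheaf.stalk x) :=
    ((X.presheaf.germ U.1 x hxU).hom.comp (f.appLE W.1 U.1 e).hom).toAlgebra
  haveI : IsScalarTower Γ(S, W.1) Γ(X, U.1) (X.presheaf.stalk x) :=
    IsScalarTower.of_algebraMap_eq fun _ => rfl
  have hq := flat_quot_atPrime (I.ideal U) (U.2.primeIdealOf ⟨x, hxU⟩).asIdeal (X.presheaf.stalk x)
    (RingHom.flat_algebraMap_iff.mp (flat_quotApp f I hfl W U e))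
  letI := S.presheaf.algebra_section_stalk ⟨f x, e hxU⟩
  haveI := W.2.isLocalization_stalk ⟨f x, e hxU⟩
  letI := (f.stalkMap x).hom.toAlgebra
  haveI : IsScalarTower Γ(S, W.1) (S.presheaf.stalk (f x)) (X.presheaf.stalk x) := by
    refine IsScalarTower.of_algebraMap_eq fun w => ?_
    change X.presheaf.germ U.1 x hxU (f.appLE W.1 U.1 e w) = f.stalkMap x (S.presheaf.germ W.1 (f x) (e hxU) w)
    rw [Scheme.Hom.germ_stalkMap_apply, Scheme.Hom.appLE, CommRingCat.comp_apply,
      TopCat.Presheaf.germ_res_apply]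
  have : Module.Flat (S.presheaf.stalk (f x))
      (X.presheaf.stalk x ⧸ (I.ideal U).map (algebraMap Γ(X, U.1) (X.presheaf.stalk x))) :=
    (Module.flat_iff_of_isLocalization (S.presheaf.stalk (f x))
      (W.2.primeIdealOf ⟨f x, e hxU⟩).asIdeal.primeCompl _).mpr hq
  exact this

/-- Two finitely generated ideals agreeing at a prime agree near it. -/
theorem exists_map_away_eq {C : Type u} [CommRing C] {P : Ideal C} [P.IsPrime] (L : Type u) [CommRing L] [Algebra C L]
    [IsLocalization.AtPrime L P] {I J : Ideal C} (hI : I.FG) (hJ : J.FG)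
    (h : I.map (algebraMap C L) = J.map (algebraMap C L)) :
    ∃ r, r ∉ P ∧ ∀ y ∈ I, r * y ∈ J ∧ ∀ y ∈ J, r * y ∈ I := by
  classical
  have key : ∀ {A B : Ideal C}, A.FG → A.map (algebraMap C L) ≤ B.map (algebraMap C L) →
      ∃ r, r ∉ P ∧ ∀ y ∈ A, r * y ∈ B := by
    intro A B hA hAB
    obtain ⟨t, rfl⟩ := hA
    have h1 : ∀ a ∈ t, ∃ r, r ∉ P ∧ r * a ∈ B := fun a ha => by
      obtain ⟨m, hm, hmB⟩ := (IsLocalization.algebraMap_mem_map_algebraMap_iff P.primeCompl L B a).1
        (hAB (Ideal.mem_map_of_mem _ (Submodule.subset_span ha)))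
      exact ⟨m, hm, hmB⟩
    choose r hr hrB using h1
    refine ⟨∏ a : t, r a.1 a.2, fun hm => ?_, fun y hy => ?_⟩
    · obtain ⟨a, -, ha⟩ := ‹P.IsPrime›.prod_mem_iff.1 hm
      exact hr _ _ ha
    · refine Submodule.span_induction (fun a ha => ?_) (by simp) (fun x y _ _ hx hy => by
        rw [mul_add]; exact B.add_mem hx hy) (fun c x _ hx => by
        rw [smul_eq_mul, mul_left_comm]; exact B.mul_mem_left c hx) hy
      rw [← Finset.mul_prod_erase Finset.univ _ (Finset.mem_univ (⟨a, ha⟩ : t)), mul_right_comm]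
      exact B.mul_mem_right _ (hrB a ha)
  obtain ⟨r, hr, hrI⟩ := key hI h.le
  obtain ⟨r', hr', hrJ⟩ := key hJ h.ge
  refine ⟨r * r', fun hm => ((‹P.IsPrime›.mem_or_mem hm).elim hr hr'), fun y hy => ⟨?_, fun z hz => ?_⟩⟩
  · rw [mul_comm r r', mul_assoc]; exact J.mul_mem_left _ (hrI y hy)
  · rw [mul_assoc]; exact I.mul_mem_left _ (hrJ z hz)

theorem fg_ideal_of_lfp' [LocallyOfFinitePresentation f] (hfp : LocallyOfFinitePresentation (I.subschemeι ≫ f))
    (W : S.affineOpens) (U : X.affineOpens) (e : U.1 ≤ f ⁻¹ᵁ W.1) : (I.ideal U).FG := by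
  let p := (I.subschemeι ≫ f).appLE W.1 (I.subschemeι ⁻¹ᵁ U.1) (fun _ hy => e hy)
  have h1 : p.hom.FinitePresentation :=
    HasRingHomProperty.appLE @LocallyOfFinitePresentation (I.subschemeι ≫ f) hfp W ⟨_, U.2.preimage I.subschemeι⟩ _
  have h2 : (f.appLE W.1 U.1 e).hom.FinitePresentation :=
    HasRingHomProperty.appLE @LocallyOfFinitePresentation f inferInstance W U e
  have hp : p = f.appLE W.1 U.1 e ≫ I.subschemeι.app U.1 := by
    rw [Scheme.Hom.app_eq_appLE, Scheme.Hom.appLE_comp_appLE]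
  letI := (f.appLE W.1 U.1 e).hom.toAlgebra
  letI := p.hom.toAlgebra
  haveI : Algebra.FinitePresentation Γ(S, W.1) Γ(X, U.1) := h2
  haveI : Algebra.FinitePresentation Γ(S, W.1) Γ(I.subscheme, I.subschemeι ⁻¹ᵁ U.1) := h1
  let φ : Γ(X, U.1) →ₐ[Γ(S, W.1)] Γ(I.subscheme, I.subschemeι ⁻¹ᵁ U.1) :=
    { (I.subschemeι.app U.1).hom with commutes' := fun r => (congr($(hp) r)).symm }
  have := Algebra.FinitePresentation.ker_fG_of_surjective φ (I.subschemeι_app_surjective U)
  rwa [show RingHom.ker φ.toRingHom = I.ideal U from I.ker_subschemeι_app U] at this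

theorem le_maximalIdeal_of_mem_support (U : X.affineOpens) {x : X} (hxU : x ∈ U.1) (hx : x ∈ I.support) :
    (I.ideal U).map (X.presheaf.germ U.1 x hxU).hom ≤ maximalIdeal (X.presheaf.stalk x) :=
  Ideal.map_le_iff_le_comap.2 fun b hb => by
    rw [Ideal.mem_comap, mem_maximalIdeal, mem_nonunits_iff]
    have h3 := (Scheme.IdealSheafData.mem_support_iff_of_mem (U := U) hxU).1 hx
    rw [Scheme.mem_zeroLocus_iff] at h3
    exact fun hu => h3 b hb ((Scheme.mem_basicOpen _ _ _ hxU).2 hu)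

/-- Chart near a point outside the support. -/
theorem exists_chart_notMem {x : X} (hx : x ∉ I.support) :
    ∃ (W : S.affineOpens) (U : X.affineOpens) (e : U.1 ≤ f ⁻¹ᵁ W.1),
      x ∈ U.1 ∧ LocGen I U ∧ (quotApp f I W U e).Flat := by
  obtain ⟨W, hxW⟩ := FlatX.exists_chart f x
  obtain ⟨U₀, hU₀, hxU, hle⟩ := exists_isAffineOpen_mem_and_subset (X := X) (x := x) (U := f ⁻¹ᵁ W.1) hxW
  let U : X.affineOpens := ⟨U₀, hU₀⟩
  have h3 := mt (Scheme.IdealSheafData.mem_support_iff_of_mem (U := U) hxU).2 hx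
  rw [Scheme.mem_zeroLocus_iff] at h3
  push Not at h3
  obtain ⟨b, hb, hxb⟩ := h3
  have hle' : (X.affineBasicOpen b).1 ≤ f ⁻¹ᵁ W.1 := (X.basicOpen_le b).trans hle
  have htop : I.ideal (X.affineBasicOpen b) = ⊤ := by
    rw [← I.map_ideal_basicOpen U b]
    haveI := U.2.isLocalization_basicOpen b
    exact Ideal.eq_top_of_isUnit_mem _ (Ideal.mem_map_of_mem _ hb)
      (IsLocalization.Away.algebraMap_isUnit (S := Γ(X, X.basicOpen b)) b)
  refine ⟨W, X.affineBasicOpen b, hle', hxb, ⟨1, one_mem _, by rw [htop, Ideal.span_singleton_one]⟩, ?_⟩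
  letI := (f.appLE W.1 (X.affineBasicOpen b).1 hle').hom.toAlgebra
  haveI : Subsingleton (Γ(X, (X.affineBasicOpen b).1) ⧸ I.ideal (X.affineBasicOpen b)) :=
    Ideal.Quotient.subsingleton_iff.2 htop
  exact RingHom.flat_algebraMap_iff.2 (inferInstance :
    Module.Flat Γ(S, W.1) (Γ(X, (X.affineBasicOpen b).1) ⧸ I.ideal (X.affineBasicOpen b)))

/-- A generator of the stalk regular on the fibre gives a flat effective Cartier chart. -/
theorem exists_chart_mem [LocallyOfFinitePresentation f] [Flat f] (U : X.affineOpens) (hfg : (I.ideal U).FG)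
    {x : X} (hxU : x ∈ U.1) (a : X.presheaf.stalk x)
    (hJ : (I.ideal U).map (X.presheaf.germ U.1 x hxU).hom = Ideal.span {a})
    (hm : a ∈ maximalIdeal (X.presheaf.stalk x))
    (hreg : ∀ z, a * z ∈ (maximalIdeal (S.presheaf.stalk (f x))).map (f.stalkMap x).hom →
      z ∈ (maximalIdeal (S.presheaf.stalk (f x))).map (f.stalkMap x).hom) :
    ∃ (W : S.affineOpens) (V : X.affineOpens) (e : V.1 ≤ f ⁻¹ᵁ W.1),
      x ∈ V.1 ∧ LocGen I V ∧ (quotApp f I W V e).Flat := by
  obtain ⟨W₀, hW₀, U', hU', hx', hle, e, hs', hgerm, -, hwr, hfl⟩ :=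
    Triage.SliceFlat.exists_slice_sch f x (Flat.stalkMap f x) [a] (by simpa using hm) (fun i hi z hz => by
      obtain rfl : i = 0 := by simpa using hi
      simp only [List.take_zero, Ideal.ofList_nil, bot_sup_eq, List.getElem_cons_zero] at hz ⊢
      exact hreg z hz) U.1 hxU
  match hs', hgerm with
  | [], hgerm => simp at hgerm
  | _ :: _ :: _, hgerm => simp at hgerm
  | [h'], hgerm =>
    simp only [List.map_cons, List.map_nil, List.cons.injEq, and_true] at hgerm
    have hnzd : h' ∈ nonZeroDivisors Γ(X, U') := by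
      have h0 := (RingTheory.Sequence.isWeaklyRegular_cons_iff Γ(X, U') h' []).1 hwr
      rw [mem_nonZeroDivisors_iff]
      refine ⟨fun z hz => ?_, fun z hz => ?_⟩ <;>
        exact h0.1.right_eq_zero_of_smul (by simpa [smul_eq_mul, mul_comm] using hz)
    letI := X.presheaf.algebra_section_stalk ⟨x, hx'⟩
    haveI := hU'.isLocalization_stalk ⟨x, hx'⟩
    let V' : X.affineOpens := ⟨U', hU'⟩
    have hV' : (I.ideal U).map (X.presheaf.map (homOfLE hle).op).hom = I.ideal V' :=
      I.map_ideal (U := V') hle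
    have heq : (I.ideal V').map (algebraMap Γ(X, U') (X.presheaf.stalk x)) =
        (Ideal.span {h'}).map (algebraMap Γ(X, U') (X.presheaf.stalk x)) := by
      rw [← hV', Ideal.map_span, Set.image_singleton]
      erw [Ideal.map_map]
      refine (Eq.trans ?_ hJ).trans (congrArg (fun b => Ideal.span {b}) hgerm.symm)
      congr 1
      exact RingHom.ext fun w => TopCat.Presheaf.germ_res_apply X.presheaf _ _ _ w
    obtain ⟨r, hr, hrI⟩ := exists_map_away_eq (P := (hU'.primeIdealOf ⟨x, hx'⟩).asIdeal)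
      (X.presheaf.stalk x) (hV' ▸ hfg.map _) (Submodule.fg_span_singleton h') heq
    have hxr : x ∈ X.basicOpen r := by
      rw [Scheme.mem_basicOpen _ _ _ hx']
      exact IsLocalization.map_units (X.presheaf.stalk x)
        (⟨r, hr⟩ : (hU'.primeIdealOf ⟨x, hx'⟩).asIdeal.primeCompl)
    haveI := hU'.isLocalization_basicOpen r
    have hru : IsUnit (algebraMap Γ(X, U') Γ(X, X.basicOpen r) r) :=
      IsLocalization.map_units _ (⟨r, Submonoid.mem_powers r⟩ : Submonoid.powers r)
    have hid : I.ideal (X.affineBasicOpen (U := V') r) =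
        (Ideal.span {h'}).map (algebraMap Γ(X, U') Γ(X, X.basicOpen r)) := by
      rw [← I.map_ideal_basicOpen V' r]
      refine le_antisymm (Ideal.map_le_iff_le_comap.2 fun y hy => ?_) (Ideal.map_le_iff_le_comap.2 fun y hy => ?_)
      · exact (Ideal.unit_mul_mem_iff_mem _ hru).1 (map_mul (algebraMap Γ(X, U') Γ(X, X.basicOpen r)) r y ▸
          Ideal.mem_map_of_mem _ (hrI y hy).1)
      · exact (Ideal.unit_mul_mem_iff_mem _ hru).1 (map_mul (algebraMap Γ(X, U') Γ(X, X.basicOpen r)) r y ▸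
          Ideal.mem_map_of_mem _ ((hrI 0 (zero_mem _)).2 y hy))
    refine ⟨⟨W₀, hW₀⟩, X.affineBasicOpen (U := V') r, (X.basicOpen_le r).trans e, hxr,
      ⟨algebraMap Γ(X, U') Γ(X, X.basicOpen r) h',
        MeroX.nonZeroDivisors_map (A := Γ(X, U')) (S := Γ(X, X.basicOpen r)) (Submonoid.powers r) hnzd,
        by rw [hid, Ideal.map_span, Set.image_singleton]; rfl⟩, ?_⟩
    refine FlatX.flat_congr _ hid.symm ?_
    letI := (f.appLE W₀ U' e).hom.toAlgebra
    letI : Algebra Γ(S, W₀) Γ(X, X.basicOpen r) :=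
      (f.appLE W₀ (X.basicOpen r) ((X.basicOpen_le r).trans e)).hom.toAlgebra
    haveI : IsScalarTower Γ(S, W₀) Γ(X, U') Γ(X, X.basicOpen r) := IsScalarTower.of_algebraMap_eq fun w => by
      change (f.appLE W₀ (X.basicOpen r) _).hom w = (f.appLE W₀ U' e ≫ X.presheaf.map (homOfLE (X.basicOpen_le r)).op).hom w
      rw [Scheme.Hom.appLE_map]
    have h1 : ((Ideal.Quotient.mk (Ideal.span {h'})).comp (f.appLE W₀ U' e).hom).Flat := by
      have := hfl 1
      rwa [List.take_one, List.head?_cons, Option.toList_some, Ideal.ofList_singleton] at this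
    exact RingHom.flat_algebraMap_iff.2
      (flat_quot_loc (Ideal.span {h'}) (Submonoid.powers r) Γ(X, X.basicOpen r)
        (RingHom.flat_algebraMap_iff.1 h1))

variable {f}

/-- The stalk of the ideal becomes principal on a subscheme where it is Cartier. -/
theorem exists_comap_gen {Z : Scheme.{u}} (i : Z ⟶ X) (w : Z) {x : X} (h : i w = x)
    (hI : BlowUp.IsEffCartierIdeal (I.comap i)) (U : X.affineOpens) (hxU : x ∈ U.1) :
    ∃ b ∈ nonZeroDivisors (Z.presheaf.stalk w),
      ((I.ideal U).map (X.presheaf.germ U.1 x hxU).hom).map (FibFlat.sm i w x h) = Ideal.span {b} := by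
  have hw : i w ∈ U.1 := h ▸ hxU
  obtain ⟨V, hwV, hVU, a, ha, hVa⟩ := FlatX.exists_locGen hI (O := i ⁻¹ᵁ U.1) (x := w) hw
  letI := Z.presheaf.algebra_section_stalk ⟨w, hwV⟩
  haveI := V.2.isLocalization_stalk ⟨w, hwV⟩
  refine ⟨Z.presheaf.germ V.1 w hwV a,
    MeroX.nonZeroDivisors_map (A := Γ(Z, V.1)) (S := Z.presheaf.stalk w)
      (V.2.primeIdealOf ⟨w, hwV⟩).asIdeal.primeCompl ha, ?_⟩
  have h' := congrArg (Ideal.map (Z.presheaf.germ V.1 w hwV).hom) hVa
  rw [ModPairLib.ideal_comap I i U V hVU, Ideal.map_span, Set.image_singleton] at h'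
  rw [← h']
  refine (Ideal.map_map (I := I.ideal U) (X.presheaf.germ U.1 x hxU).hom (FibFlat.sm i w x h)).trans (Eq.trans ?_
    (Ideal.map_map (I := I.ideal U) (i.appLE U.1 V.1 hVU).hom (Z.presheaf.germ V.1 w hwV).hom).symm)
  refine congrArg (fun q => Ideal.map q (I.ideal U)) (RingHom.ext fun y => ?_)
  refine (RelCurveDiv.sm_germ i hxU w h y).trans ?_
  exact (TopCat.Presheaf.germ_res_apply Z.presheaf (homOfLE hVU) w hwV (i.app U.1 y)).symm

variable {I}

theorem reg_of_sm (x : X) {a : X.presheaf.stalk x}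
    (ha : FibFlat.sm (f.fiberι (f x)) (f.asFiber x) x (f.fiberι_asFiber x) a ∈
      nonZeroDivisors ((f.fiber (f x)).presheaf.stalk (f.asFiber x))) :
    ∀ z, a * z ∈ (maximalIdeal (S.presheaf.stalk (f x))).map (f.stalkMap x).hom →
      z ∈ (maximalIdeal (S.presheaf.stalk (f x))).map (f.stalkMap x).hom := by
  intro z hz
  rw [← FibFlat.sm_self f x, ← FibFlat.ker_sm_fiberι f (f x) (f.asFiber x) x (f.fiberι_asFiber x),
    RingHom.mem_ker] at hz ⊢
  rw [map_mul] at hz
  exact (mem_nonZeroDivisors_iff.1 ha).1 _ hz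

theorem isEffCartier_flat_of_charts
    (h : ∀ x : X, ∃ (W : S.affineOpens) (U : X.affineOpens) (e : U.1 ≤ f ⁻¹ᵁ W.1),
      x ∈ U.1 ∧ LocGen I U ∧ (quotApp f I W U e).Flat) :
    BlowUp.IsEffCartierIdeal I ∧ Flat (I.subschemeι ≫ f) :=
  ⟨fun x => let ⟨_, U, _, hx, hg, _⟩ := h x; ⟨U, hx, hg⟩,
    FlatX.flat_subscheme_of_charts f I fun x => let ⟨W, U, e, hx, _, hf⟩ := h x; ⟨W, U, e, hx, hf⟩⟩

/-- A closed subscheme flat over the base which is Cartier on the fibres is Cartier. -/
theorem isEffCartier_of_fibres [Flat f] [LocallyOfFinitePresentation f] [Flat (I.subschemeι ≫ f)]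
    [LocallyOfFinitePresentation (I.subschemeι ≫ f)]
    (hfib : ∀ s : ↥S, BlowUp.IsEffCartierIdeal (I.comap (f.fiberι s))) : BlowUp.IsEffCartierIdeal I := by
  refine (isEffCartier_flat_of_charts (f := f) fun x => ?_).1
  by_cases hx : x ∈ I.support
  · obtain ⟨W, hxW⟩ := FlatX.exists_chart f x
    obtain ⟨U₀, hU₀, hxU, hle⟩ := exists_isAffineOpen_mem_and_subset (X := X) (x := x) (U := f ⁻¹ᵁ W.1) hxW
    let U : X.affineOpens := ⟨U₀, hU₀⟩
    have hfg := fg_ideal_of_lfp' f I inferInstance W U hle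
    obtain ⟨b, hb, hφJ⟩ := exists_comap_gen I (f.fiberι (f x)) (f.asFiber x) (f.fiberι_asFiber x) (hfib (f x)) U hxU
    let J := (I.ideal U).map (X.presheaf.germ U.1 x hxU).hom
    let φ := FibFlat.sm (f.fiberι (f x)) (f.asFiber x) x (f.fiberι_asFiber x)
    obtain ⟨a, haJ, rfl⟩ := (Ideal.mem_map_iff_of_surjective φ (FibFlat.surjective_sm _ _ _)).1
      (show b ∈ J.map φ from hφJ ▸ Ideal.mem_span_singleton_self b)
    have hJm := le_maximalIdeal_of_mem_support I U hxU hx
    refine exists_chart_mem f I U hfg hxU a ?_ (hJm haJ) (reg_of_sm x hb)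
    letI := (f.stalkMap x).hom.toAlgebra
    haveI : IsLocalHom (algebraMap (S.presheaf.stalk (f x)) (X.presheaf.stalk x)) :=
      inferInstanceAs (IsLocalHom (f.stalkMap x).hom)
    haveI : Module.Flat (S.presheaf.stalk (f x)) (X.presheaf.stalk x ⧸ J) :=
      flat_stalk_quotient' f I inferInstance W U hle hxU
    refine le_antisymm ?_ ((Ideal.span_singleton_le_iff_mem _).2 haJ)
    refine Submodule.le_of_le_smul_of_le_jacobson_bot (I := maximalIdeal (X.presheaf.stalk x)) (hfg.map _)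
      (IsLocalRing.maximalIdeal_le_jacobson _) fun y hy => ?_
    obtain ⟨t, ht⟩ := Ideal.mem_span_singleton'.1
      (show φ y ∈ Ideal.span {φ a} from hφJ ▸ Ideal.mem_map_of_mem φ hy)
    obtain ⟨t, rfl⟩ := FibFlat.surjective_sm (f := f.fiberι (f x)) (f.asFiber x) x (f.fiberι_asFiber x) t
    have hk : y - t * a ∈ (maximalIdeal (S.presheaf.stalk (f x))).map (f.stalkMap x).hom := by
      rw [← FibFlat.sm_self f x, ← FibFlat.ker_sm_fiberι f (f x) (f.asFiber x) x (f.fiberι_asFiber x),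
        RingHom.mem_ker, map_sub, map_mul, ← ht, sub_self]
    refine Submodule.mem_sup.2 ⟨t * a, Submodule.smul_mem _ t (Submodule.mem_span_singleton_self a),
      y - t * a, ?_, add_sub_cancel _ _⟩
    exact Submodule.smul_mono_left (((IsLocalRing.local_hom_TFAE
      (algebraMap (S.presheaf.stalk (f x)) (X.presheaf.stalk x))).out 0 2).1 ‹_›)
      (RelCurveDiv.mem_smul_of_flat_quotient (maximalIdeal (S.presheaf.stalk (f x))) J
        (sub_mem hy (J.mul_mem_left t haJ)) hk)
  · exact exists_chart_notMem f I hx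

/-- A locally principal ideal which is Cartier on the fibres is Cartier with flat subscheme. -/
theorem isEffCartier_flat_of_fibres [Flat f] [LocallyOfFinitePresentation f] (hZ : Curv2.IsLocPrincipal I)
    (hfib : ∀ s : ↥S, BlowUp.IsEffCartierIdeal (I.comap (f.fiberι s))) :
    BlowUp.IsEffCartierIdeal I ∧ Flat (I.subschemeι ≫ f) := by
  refine isEffCartier_flat_of_charts fun x => ?_
  by_cases hx : x ∈ I.support
  · obtain ⟨U, hxU, g, hg⟩ := hZ x hx
    have hJ : (I.ideal U).map (X.presheaf.germ U.1 x hxU).hom = Ideal.span {X.presheaf.germ U.1 x hxU g} := by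
      rw [hg, Ideal.map_span, Set.image_singleton]
    obtain ⟨b, hb, hφJ⟩ := exists_comap_gen I (f.fiberι (f x)) (f.asFiber x) (f.fiberι_asFiber x) (hfib (f x)) U hxU
    rw [hJ, Ideal.map_span, Set.image_singleton] at hφJ
    obtain ⟨c, hc⟩ := Ideal.mem_span_singleton'.1 (hφJ.ge (Ideal.mem_span_singleton_self b))
    refine exists_chart_mem f I U (hg ▸ Submodule.fg_span_singleton g) hxU _ hJ
      (le_maximalIdeal_of_mem_support I U hxU hx (hJ ▸ Ideal.mem_span_singleton_self _))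
      (reg_of_sm x (mul_mem_nonZeroDivisors.1 (hc ▸ hb)).2)
  · exact exists_chart_notMem f I hx

end Groth.Agent.MeroX
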