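import Groth.Agent.InvX.Tensor
import Groth.Agent.QCoh.Stalk
import Groth.Prelude.Def_MeroDiv
import Mathlib.AlgebraicGeometry.IdealSheaf.Basic
import Mathlib.AlgebraicGeometry.Morphisms.QuasiCompact

/-! The ideal of denominators of a regular meromorphic section of an invertible module. -/

set_option autoImplicit false
set_option backward.isDefEq.respectTransparency false
set_option backward.isDefEq.respectTransparency.types false
set_option linter.style.haveILetI false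

universe u

open CategoryTheory AlgebraicGeometry TopologicalSpace

namespace Groth.Agent.MeroX

open Groth.Agent

variable {X : Scheme.{u}} {L : X.Modules}

theorem kmk_smul_mk {y : X} (a : X.presheaf.stalk y) (b : Mero.regStalk X y) (m : L.presheaf.stalk y)
    (b' : Mero.regStalk X y) :
    (LocalizedModule.mk a b : Mero.KStalk X y) • (LocalizedModule.mk m b' : Mero.MStalk L y) =
      LocalizedModule.mk (a • m) (b * b') :=
  LocalizedModule.mk_smul_mk a m b b'

/-- `s` is `(a/b)·e` on the open. -/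
def IsChart (L : X.Modules) (s : Γ(Mero.merMod L, ⊤)) (W : X.Opens) (e : Γ(L, W)) (a b : Mero.regSub X W) : Prop :=
  InvX.IsFrame e ∧ ∀ y : W, s.1 ⟨y.1, trivial⟩ =
    LocalizedModule.mk (X.presheaf.germ W y.1 y.2 a.1 • L.presheaf.germ W y.1 y.2 e) (Mero.regGerm y b)

theorem exists_denomChart (hL : PicF.IsInvertible L) (s : Γ(Mero.merMod L, ⊤)) (hs : Mero.IsRegularMero L s) (x : X) :
    ∃ (W : X.Opens) (_ : x ∈ W) (e : Γ(L, W)) (a b : Mero.regSub X W), IsChart L s W e a b := by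
  obtain ⟨U, hxU, e, he⟩ := InvX.exists_frame hL x
  obtain ⟨W₀, hxW, i, M, b, hMb⟩ := s.2 ⟨x, trivial⟩
  obtain ⟨a, ha⟩ := he.exists_coord (inf_le_right : W₀ ⊓ U ≤ U) (AModX.res L (inf_le_left : W₀ ⊓ U ≤ W₀) M)
  let b' : Mero.regSub X (W₀ ⊓ U) :=
    ⟨X.presheaf.map (homOfLE (inf_le_left : W₀ ⊓ U ≤ W₀)).op b.1, Mero.regSub_res _ b.2⟩
  have hval : ∀ y : (W₀ ⊓ U : X.Opens), s.1 ⟨y.1, trivial⟩ =
      LocalizedModule.mk (X.presheaf.germ _ y.1 y.2 a • L.presheaf.germ _ y.1 y.2 (AModX.res L inf_le_right e))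
        (Mero.regGerm y b') := by
    intro y
    have h1 : s.1 ⟨y.1, trivial⟩ = LocalizedModule.mk (L.presheaf.germ W₀ y.1 y.2.1 M) (Mero.regGerm ⟨y.1, y.2.1⟩ b) :=
      hMb ⟨y.1, y.2.1⟩
    rw [h1]
    refine Mero.mk_congr ?_ (X.presheaf.germ_res_apply _ y.1 y.2 b.1).symm
    have h2 := congrArg (L.presheaf.germ _ y.1 y.2) ha
    rw [QCoh.germ_smul'] at h2
    exact (L.presheaf.germ_res_apply (homOfLE inf_le_left) y.1 y.2 M).symm.trans h2
  have hareg : a ∈ Mero.regSub X (W₀ ⊓ U) := by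
    intro y
    rw [mem_nonZeroDivisors_iff_right]
    intro c hc
    refine Mero.algebraMap_KStalk_injective y.1 ((hs y.1 _ ?_).trans (map_zero _).symm)
    rw [hval y]
    show (LocalizedModule.mk c 1 : Mero.KStalk X y.1) • _ = _
    rw [kmk_smul_mk, ← mul_smul, hc, zero_smul, LocalizedModule.zero_mk]
  exact ⟨W₀ ⊓ U, ⟨hxW, hxU⟩, AModX.res L inf_le_right e, ⟨a, hareg⟩, b', he.res _, hval⟩

theorem IsChart.res {s : Γ(Mero.merMod L, ⊤)} {W V : X.Opens} {e : Γ(L, W)} {a b : Mero.regSub X W}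
    (h : IsChart L s W e a b) (hV : V ≤ W) :
    IsChart L s V (AModX.res L hV e) ⟨X.presheaf.map (homOfLE hV).op a.1, Mero.regSub_res _ a.2⟩
      ⟨X.presheaf.map (homOfLE hV).op b.1, Mero.regSub_res _ b.2⟩ := by
  refine ⟨h.1.res hV, fun y => (h.2 ⟨y.1, hV y.2⟩).trans (Mero.mk_congr ?_ ?_)⟩
  · exact (congrArg₂ (fun r m => r • m) (X.presheaf.germ_res_apply _ y.1 y.2 a.1).symm
      (L.presheaf.germ_res_apply (homOfLE hV) y.1 y.2 e).symm)
  · exact (X.presheaf.germ_res_apply _ y.1 y.2 b.1).symm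

theorem section_eq_of_germ {U : X.Opens} {f g : Γ(X, U)}
    (h : ∀ y : U, X.presheaf.germ U y.1 y.2 f = X.presheaf.germ U y.1 y.2 g) : f = g :=
  TopCat.Presheaf.section_ext X.sheaf U f g fun y hy => h ⟨y, hy⟩

theorem module_eq_of_germ {U : X.Opens} {f g : Γ(L, U)}
    (h : ∀ y : U, L.presheaf.germ U y.1 y.2 f = L.presheaf.germ U y.1 y.2 g) : f = g :=
  TopCat.Presheaf.section_ext ⟨L.presheaf, L.isSheaf⟩ U f g fun y hy => h ⟨y, hy⟩

theorem smul_frame_cancel {W : X.Opens} {e : Γ(L, W)} (he : InvX.IsFrame e) {y : X} (hy : y ∈ W)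
    (u : Mero.regStalk X y) {r r' : X.presheaf.stalk y}
    (h : u • r • L.presheaf.germ W y hy e = u • r' • L.presheaf.germ W y hy e) : r = r' := by
  simp only [Submonoid.smul_def, ← mul_smul] at h
  exact (mul_cancel_left_mem_nonZeroDivisors (Mero.regStalk_le_nonZeroDivisors y u.2)).1 ((he.germ_bijective hy).1 h)

theorem mk_one_injective (hL : PicF.IsInvertible L) (y : X) {m m' : L.presheaf.stalk y}
    (h : (LocalizedModule.mk m 1 : Mero.MStalk L y) = LocalizedModule.mk m' 1) : m = m' := by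
  obtain ⟨U, hyU, e, he⟩ := InvX.exists_frame hL y
  obtain ⟨r, rfl⟩ := (he.germ_bijective hyU).2 m
  obtain ⟨r', rfl⟩ := (he.germ_bijective hyU).2 m'
  obtain ⟨u, hu⟩ := LocalizedModule.mk_eq.1 h
  simp only [one_smul] at hu
  rw [smul_frame_cancel he hyU u hu]

theorem denomIdeal_res (s : Γ(Mero.merMod L, ⊤)) {U V : X.Opens} (h : V ≤ U) {f : Γ(X, U)}
    (hf : f ∈ Mero.denomIdeal L s U) : X.presheaf.map (homOfLE h).op f ∈ Mero.denomIdeal L s V := by
  obtain ⟨m, hm⟩ := hf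
  refine ⟨AModX.res L h m, fun y => ?_⟩
  rw [X.presheaf.germ_res_apply (homOfLE h) y.1 y.2 f, hm ⟨y.1, h y.2⟩]
  exact congrArg _ (L.presheaf.germ_res_apply (homOfLE h) y.1 y.2 m).symm

theorem denomIdeal_local (hL : PicF.IsInvertible L) (s : Γ(Mero.merMod L, ⊤)) {U : X.Opens} (f : Γ(X, U))
    (h : ∀ x ∈ U, ∃ (V : X.Opens) (hV : V ≤ U), x ∈ V ∧
      X.presheaf.map (homOfLE hV).op f ∈ Mero.denomIdeal L s V) : f ∈ Mero.denomIdeal L s U := by
  choose V hV hxV hf using h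
  choose m hm using hf
  have hval : ∀ (x : X) (hx : x ∈ U) (y : X) (hy : y ∈ V x hx),
      X.presheaf.germ U y (hV x hx hy) f • s.1 ⟨y, trivial⟩ =
        (LocalizedModule.mk (L.presheaf.germ (V x hx) y hy (m x hx)) 1 : Mero.MStalk L y) := by
    intro x hx y hy
    rw [← X.presheaf.germ_res_apply (homOfLE (hV x hx)) y hy f]
    exact hm x hx ⟨y, hy⟩
  obtain ⟨M, hM, -⟩ := AModX.existsUnique_glue (M := L) (V := U) (ι := U) (fun x => V x.1 x.2) (fun x => hV x.1 x.2)
    (fun p hp => ⟨⟨p, hp⟩, hxV p hp⟩) (fun x => m x.1 x.2) fun i j => by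
      refine module_eq_of_germ fun y => ?_
      refine mk_one_injective hL y.1 ?_
      rw [show L.presheaf.germ _ y.1 y.2 (AModX.res L inf_le_left (m i.1 i.2)) = _ from
          L.presheaf.germ_res_apply _ y.1 y.2 _, ← hval i.1 i.2 y.1 y.2.1,
        show L.presheaf.germ _ y.1 y.2 (AModX.res L inf_le_right (m j.1 j.2)) = _ from
          L.presheaf.germ_res_apply _ y.1 y.2 _, ← hval j.1 j.2 y.1 y.2.2]
  refine ⟨M, fun y => ?_⟩
  rw [hval y.1 y.2 y.1 (hxV y.1 y.2)]
  refine Mero.mk_congr ?_ rfl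
  have h2 := congrArg (L.presheaf.germ (V y.1 y.2) y.1 (hxV y.1 y.2)) (hM ⟨y.1, y.2⟩)
  exact h2.symm.trans (L.presheaf.germ_res_apply _ y.1 (hxV y.1 y.2) M)

theorem IsChart.mem_iff {s : Γ(Mero.merMod L, ⊤)} {V : X.Opens} {e : Γ(L, V)} {a b : Mero.regSub X V}
    (h : IsChart L s V e a b) (f : Γ(X, V)) :
    f ∈ Mero.denomIdeal L s V ↔ ∃ c, f * a.1 = b.1 * c := by
  constructor
  · rintro ⟨m, hm⟩
    obtain ⟨c, hc⟩ := h.1.exists_coord le_rfl m
    refine ⟨c, section_eq_of_germ fun y => ?_⟩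
    have h1 := hm y
    rw [h.2 y, LocalizedModule.smul'_mk, LocalizedModule.mkLinearMap_apply] at h1
    obtain ⟨u, hu⟩ := LocalizedModule.mk_eq.1 h1
    have hc' : L.presheaf.germ V y.1 y.2 m = X.presheaf.germ V y.1 y.2 c • L.presheaf.germ V y.1 y.2 e := by
      rw [hc, QCoh.germ_smul']
      exact congrArg _ (L.presheaf.germ_res_apply _ y.1 y.2 e)
    rw [hc'] at hu
    simp only [one_smul] at hu
    rw [Submonoid.smul_def (Mero.regGerm y b), ← mul_smul, ← mul_smul] at hu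
    rw [map_mul, map_mul]
    exact smul_frame_cancel h.1 y.2 u hu
  · rintro ⟨c, hc⟩
    refine ⟨c • e, fun y => ?_⟩
    rw [h.2 y, LocalizedModule.smul'_mk, LocalizedModule.mkLinearMap_apply, LocalizedModule.mk_eq]
    refine ⟨1, ?_⟩
    simp only [one_smul]
    rw [QCoh.germ_smul', Submonoid.smul_def (Mero.regGerm y b), ← mul_smul, ← mul_smul, ← map_mul, hc, map_mul]

theorem exists_pow_mul_mem_chart (s : Γ(Mero.merMod L, ⊤)) {V : X.Opens} (hV : IsAffineOpen V) {e : Γ(L, V)}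
    {a b : Mero.regSub X V} (h : IsChart L s V e a b) (g f : Γ(X, V))
    (hf : X.presheaf.map (homOfLE (X.basicOpen_le g)).op f ∈ Mero.denomIdeal L s (X.basicOpen g)) :
    ∃ n : ℕ, g ^ n * f ∈ Mero.denomIdeal L s V := by
  obtain ⟨c, hc⟩ := ((h.res (X.basicOpen_le g)).mem_iff _).1 hf
  haveI := hV.isLocalization_basicOpen g
  obtain ⟨n, c', hc'⟩ := IsLocalization.Away.surj g c
  have h1 : algebraMap Γ(X, V) Γ(X, X.basicOpen g) (g ^ n * (f * a.1)) =
      algebraMap Γ(X, V) Γ(X, X.basicOpen g) (b.1 * c') := by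
    rw [map_mul, map_mul, map_pow, map_mul, ← hc']
    refine (congrArg _ hc).trans ?_
    show algebraMap Γ(X, V) Γ(X, X.basicOpen g) g ^ n * (algebraMap Γ(X, V) Γ(X, X.basicOpen g) b.1 * c) = _
    ring
  obtain ⟨k, hk⟩ := (IsLocalization.eq_iff_exists (Submonoid.powers g) Γ(X, X.basicOpen g)).1 h1
  obtain ⟨j, hj⟩ := k.2
  refine ⟨j + n, (h.mem_iff _).2 ⟨g ^ j * c', ?_⟩⟩
  rw [← show g ^ j = (k : Γ(X, V)) from hj] at hk
  rw [pow_add]
  linear_combination hk

theorem exists_pow_mul_mem (hL : PicF.IsInvertible L) (s : Γ(Mero.merMod L, ⊤)) (hs : Mero.IsRegularMero L s)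
    {U : X.Opens} (hU : IsAffineOpen U) (g f : Γ(X, U))
    (hf : X.presheaf.map (homOfLE (X.basicOpen_le g)).op f ∈ Mero.denomIdeal L s (X.basicOpen g)) :
    ∃ n : ℕ, g ^ n * f ∈ Mero.denomIdeal L s U := by
  classical
  have hloc : ∀ x : U, ∃ h : Γ(X, U), x.1 ∈ X.basicOpen h ∧ ∃ n : ℕ,
      X.presheaf.map (homOfLE (X.basicOpen_le h)).op (g ^ n * f) ∈ Mero.denomIdeal L s (X.basicOpen h) := by
    intro x
    obtain ⟨W, hxW, e, a, b, hch⟩ := exists_denomChart hL s hs x.1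
    obtain ⟨h, hh, hxh⟩ := hU.exists_basicOpen_le (V := W) ⟨x.1, hxW⟩ x.2
    refine ⟨h, hxh, ?_⟩
    let g' := X.presheaf.map (homOfLE (X.basicOpen_le h)).op g
    have hle : X.basicOpen g' ≤ X.basicOpen g := by
      rw [Scheme.basicOpen_res]
      exact inf_le_right
    obtain ⟨n, hn⟩ := exists_pow_mul_mem_chart s (hU.basicOpen h) (hch.res hh) g'
      (X.presheaf.map (homOfLE (X.basicOpen_le h)).op f) (by
        have h2 := denomIdeal_res s hle hf
        rw [← CommRingCat.comp_apply, ← Functor.map_comp] at h2 ⊢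
        exact h2)
    exact ⟨n, by rw [map_mul, map_pow]; exact hn⟩
  choose h hh n hn using hloc
  obtain ⟨t, ht⟩ := hU.isCompact.elim_finite_subcover (fun x : U => (X.basicOpen (h x) : Set X))
    (fun x => (X.basicOpen (h x)).isOpen) (fun x hx => Set.mem_iUnion.2 ⟨⟨x, hx⟩, hh ⟨x, hx⟩⟩)
  refine ⟨t.sup n, denomIdeal_local hL s _ fun x hx => ?_⟩
  obtain ⟨i, hit, hxi⟩ := Set.mem_iUnion₂.1 (ht hx)
  refine ⟨X.basicOpen (h i), X.basicOpen_le _, hxi, ?_⟩
  rw [show g ^ t.sup n * f = g ^ (t.sup n - n i) * (g ^ n i * f) by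
    rw [← mul_assoc, ← pow_add, Nat.sub_add_cancel (Finset.le_sup hit)], map_mul]
  exact Ideal.mul_mem_left _ _ (hn i)

/-- The ideals of denominators form an ideal sheaf. -/
noncomputable def denomSheaf (hL : PicF.IsInvertible L) (s : Γ(Mero.merMod L, ⊤)) (hs : Mero.IsRegularMero L s) :
    X.IdealSheafData where
  ideal U := Mero.denomIdeal L s U.1
  map_ideal_basicOpen U g := by
    refine le_antisymm (Ideal.map_le_iff_le_comap.2 fun f hf => denomIdeal_res s _ hf) fun f hf => ?_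
    haveI := U.2.isLocalization_basicOpen g
    obtain ⟨k, f', hf'⟩ := IsLocalization.Away.surj g f
    have h1 : X.presheaf.map (homOfLE (X.basicOpen_le g)).op f' ∈ Mero.denomIdeal L s (X.basicOpen g) := by
      rw [show X.presheaf.map (homOfLE (X.basicOpen_le g)).op f' = algebraMap Γ(X, U.1) Γ(X, X.basicOpen g) f' from rfl,
        ← hf']
      exact Ideal.mul_mem_right _ _ hf
    obtain ⟨n, hn⟩ := exists_pow_mul_mem hL s hs U.2 g f' h1
    have h2 := Ideal.mem_map_of_mem (algebraMap Γ(X, U.1) Γ(X, X.basicOpen g)) hn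
    have hu : IsUnit (algebraMap Γ(X, U.1) Γ(X, X.basicOpen g) (g ^ n) * algebraMap Γ(X, U.1) Γ(X, X.basicOpen g) g ^ k) :=
      IsUnit.mul (by rw [map_pow]; exact (IsLocalization.Away.algebraMap_isUnit g).pow n)
        ((IsLocalization.Away.algebraMap_isUnit g).pow k)
    rw [map_mul, ← hf', mul_comm f, ← mul_assoc] at h2
    exact (Ideal.unit_mul_mem_iff_mem _ hu).1 h2

theorem denomSheaf_ideal (hL : PicF.IsInvertible L) (s : Γ(Mero.merMod L, ⊤)) (hs : Mero.IsRegularMero L s)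
    (U : X.affineOpens) : (denomSheaf hL s hs).ideal U = Mero.denomIdeal L s U.1 := rfl

theorem interior_denomSheaf (hL : PicF.IsInvertible L) (s : Γ(Mero.merMod L, ⊤)) (hs : Mero.IsRegularMero L s) :
    interior ((denomSheaf hL s hs).support : Set ↥X) = ∅ := by
  by_contra hne
  obtain ⟨x, hx⟩ := Set.nonempty_iff_ne_empty.2 hne
  obtain ⟨W, hxW, e, a, b, hch⟩ := exists_denomChart hL s hs x
  obtain ⟨V, hV, hxV, hVle⟩ := exists_isAffineOpen_mem_and_subset
    (U := W ⊓ ⟨interior ((denomSheaf hL s hs).support : Set ↥X), isOpen_interior⟩) (x := x) ⟨hxW, hx⟩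
  replace hVle : V ≤ W ⊓ ⟨interior ((denomSheaf hL s hs).support : Set ↥X), isOpen_interior⟩ := hVle
  have hc := hch.res (hVle.trans inf_le_left)
  let b' := X.presheaf.map (homOfLE (hVle.trans inf_le_left)).op b.1
  have hbmem : b' ∈ Mero.denomIdeal L s V := (hc.mem_iff b').2 ⟨_, rfl⟩
  have hbot : X.basicOpen b' = ⊥ := by
    refine Opens.ext (Set.eq_empty_iff_forall_notMem.2 fun y hy => ?_)
    have hyV := X.basicOpen_le b' hy
    have hsupp : y ∈ (denomSheaf hL s hs).support := interior_subset (hVle hyV).2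
    rw [Scheme.IdealSheafData.mem_support_iff_of_mem (U := ⟨V, hV⟩) hyV, Scheme.mem_zeroLocus_iff] at hsupp
    exact hsupp b' hbmem hy
  obtain ⟨n, hn⟩ := (Scheme.isNilpotent_iff_basicOpen_eq_bot_of_isCompact hV.isCompact b').2 hbot
  have hb := pow_mem (Mero.regSub_res (homOfLE (hVle.trans inf_le_left)) b.2 ⟨x, hxV⟩) n
  rw [← map_pow, hn, map_zero] at hb
  exact zero_notMem_nonZeroDivisors hb

end Groth.Agent.MeroX
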