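import Groth.Agent.MeroX.Denom
import Groth.Agent.BlowUpX.Basic
import Groth.Agent.ModPairLib.Quot
import Groth.Agent.InvX.Pullback
import Groth.Agent.InvX.GenLocusPull
import Groth.Agent.BlowP1.Chart
import Mathlib

/-!
# The denominators of a regular meromorphic section and the blow-up in their ideal
-/

set_option autoImplicit false
set_option backward.isDefEq.respectTransparency false
set_option backward.isDefEq.respectTransparency.types false
set_option linter.style.haveILetI false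
set_option maxHeartbeats 1000000

universe u

open CategoryTheory CategoryTheory.Limits AlgebraicGeometry TopologicalSpace

noncomputable section

namespace Groth.Agent.DenomBlow22

open Groth.Agent Groth.Agent.MeroX

variable {X : Scheme.{u}} {L : X.Modules}

/-- The functions carrying the module into the multiples of `s`: the ideal of numerators. -/
def numerIdeal (s : Γ(Mero.merMod L, ⊤)) (U : X.Opens) : Ideal Γ(X, U) where
  carrier := {h | ∀ (y : U) (m : L.presheaf.stalk y.1), ∃ r : X.presheaf.stalk y.1,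
    X.presheaf.germ U y.1 y.2 h • (LocalizedModule.mk m 1 : Mero.MStalk L y.1) = r • s.1 ⟨y.1, trivial⟩}
  zero_mem' y m := ⟨0, by rw [map_zero, zero_smul, zero_smul]⟩
  add_mem' {f g} hf hg y m := by
    obtain ⟨r, hr⟩ := hf y m
    obtain ⟨r', hr'⟩ := hg y m
    exact ⟨r + r', by rw [map_add, add_smul, hr, hr', add_smul]⟩
  smul_mem' c f hf y m := by
    obtain ⟨r, hr⟩ := hf y m
    exact ⟨X.presheaf.germ U y.1 y.2 c * r, by rw [smul_eq_mul, map_mul, mul_smul, hr, mul_smul]⟩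

variable {s : Γ(Mero.merMod L, ⊤)}

theorem numer_res {U V : X.Opens} (h : V ≤ U) {f : Γ(X, U)} (hf : f ∈ numerIdeal s U) :
    X.presheaf.map (homOfLE h).op f ∈ numerIdeal s V := fun y m => by
  rw [X.presheaf.germ_res_apply (homOfLE h) y.1 y.2 f]
  exact hf ⟨y.1, h y.2⟩ m

theorem numer_local {U : X.Opens} {f : Γ(X, U)}
    (h : ∀ x ∈ U, ∃ (V : X.Opens) (hV : V ≤ U), x ∈ V ∧
      X.presheaf.map (homOfLE hV).op f ∈ numerIdeal s V) : f ∈ numerIdeal s U := fun y m => by
  obtain ⟨V, hV, hyV, hf⟩ := h y.1 y.2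
  obtain ⟨r, hr⟩ := hf ⟨y.1, hyV⟩ m
  rw [X.presheaf.germ_res_apply (homOfLE hV) y.1 hyV f] at hr
  exact ⟨r, hr⟩

/-- Membership in a principal ideal of an affine is tested at the stalks. -/
theorem mem_span_singleton_of_germ {V : X.Opens} (hV : IsAffineOpen V) {a z : Γ(X, V)}
    (h : ∀ (y : X) (hy : y ∈ V), ∃ r, X.presheaf.germ V y hy z = X.presheaf.germ V y hy a * r) :
    z ∈ Ideal.span {a} := by
  refine Ideal.mem_of_localization_maximal fun P hP => ?_
  let q : PrimeSpectrum Γ(X, V) := ⟨P, hP.isPrime⟩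
  have hqV : hV.fromSpec q ∈ V := hV.range_fromSpec.le ⟨q, rfl⟩
  obtain ⟨r, hr⟩ := h _ hqV
  letI := X.presheaf.algebra_section_stalk ⟨hV.fromSpec q, hqV⟩
  haveI : IsLocalization.AtPrime (X.presheaf.stalk (hV.fromSpec q)) P := hV.isLocalization_stalk' q hqV
  obtain ⟨⟨f, w⟩, hfw⟩ := IsLocalization.surj P.primeCompl r
  have h1 : algebraMap Γ(X, V) (X.presheaf.stalk (hV.fromSpec q)) (z * w) =
      algebraMap Γ(X, V) (X.presheaf.stalk (hV.fromSpec q)) (a * f) := by
    rw [map_mul, map_mul]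
    change X.presheaf.germ V _ hqV z * _ = X.presheaf.germ V _ hqV a * _
    rw [hr, mul_assoc, ← hfw]
  obtain ⟨k, hk⟩ := (IsLocalization.eq_iff_exists P.primeCompl _).1 h1
  rw [IsLocalization.algebraMap_mem_map_algebraMap_iff P.primeCompl]
  refine ⟨(k : Γ(X, V)) * w, mul_mem k.2 w.2, Ideal.mem_span_singleton'.2 ⟨k * f, ?_⟩⟩
  linear_combination -hk

theorem numer_mem_iff {V : X.Opens} (hV : IsAffineOpen V) {e : Γ(L, V)} {a b : Mero.regSub X V}
    (h : IsChart L s V e a b) (f : Γ(X, V)) :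
    f ∈ numerIdeal s V ↔ ∃ c, f * b.1 = a.1 * c := by
  constructor
  · intro hf
    suffices hmem : f * b.1 ∈ Ideal.span {a.1} by
      obtain ⟨c, hc⟩ := Ideal.mem_span_singleton'.1 hmem
      exact ⟨c, by rw [← hc, mul_comm]⟩
    refine mem_span_singleton_of_germ hV fun y hy => ?_
    obtain ⟨r, hr⟩ := hf ⟨y, hy⟩ (L.presheaf.germ V y hy e)
    rw [h.2 ⟨y, hy⟩, LocalizedModule.smul'_mk, LocalizedModule.smul'_mk, LocalizedModule.mk_eq] at hr
    obtain ⟨u, hu⟩ := hr
    simp only [one_smul] at hu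
    rw [Submonoid.smul_def (Mero.regGerm ⟨y, hy⟩ b), ← mul_smul, ← mul_smul] at hu
    refine ⟨r, ?_⟩
    rw [map_mul]
    have := smul_frame_cancel h.1 hy u hu
    linear_combination this
  · rintro ⟨c, hc⟩ y m
    obtain ⟨t, rfl⟩ := (h.1.germ_bijective y.2).2 m
    refine ⟨X.presheaf.germ V y.1 y.2 c * t, ?_⟩
    rw [h.2 y, LocalizedModule.smul'_mk, LocalizedModule.smul'_mk, LocalizedModule.mk_eq]
    refine ⟨1, ?_⟩
    simp only [one_smul]
    rw [Submonoid.smul_def (Mero.regGerm y b), ← mul_smul, ← mul_smul, ← mul_smul]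
    congr 1
    have h1 := congrArg (X.presheaf.germ V y.1 y.2) hc
    rw [map_mul, map_mul] at h1
    show X.presheaf.germ V y.1 y.2 b.1 * X.presheaf.germ V y.1 y.2 f * t = _
    linear_combination t * h1

theorem exists_pow_mul_mem_numer_chart {V : X.Opens} (hV : IsAffineOpen V) {e : Γ(L, V)}
    {a b : Mero.regSub X V} (h : IsChart L s V e a b) (g f : Γ(X, V))
    (hf : X.presheaf.map (homOfLE (X.basicOpen_le g)).op f ∈ numerIdeal s (X.basicOpen g)) :
    ∃ n : ℕ, g ^ n * f ∈ numerIdeal s V := by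
  obtain ⟨c, hc⟩ := (numer_mem_iff (hV.basicOpen g) (h.res (X.basicOpen_le g)) _).1 hf
  haveI := hV.isLocalization_basicOpen g
  obtain ⟨n, c', hc'⟩ := IsLocalization.Away.surj g c
  have h1 : algebraMap Γ(X, V) Γ(X, X.basicOpen g) (g ^ n * (f * b.1)) =
      algebraMap Γ(X, V) Γ(X, X.basicOpen g) (a.1 * c') := by
    rw [map_mul, map_mul, map_pow, map_mul, ← hc']
    refine (congrArg _ hc).trans ?_
    show algebraMap Γ(X, V) Γ(X, X.basicOpen g) g ^ n * (algebraMap Γ(X, V) Γ(X, X.basicOpen g) a.1 * c) = _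
    ring
  obtain ⟨k, hk⟩ := (IsLocalization.eq_iff_exists (Submonoid.powers g) Γ(X, X.basicOpen g)).1 h1
  obtain ⟨j, hj⟩ := k.2
  refine ⟨j + n, (numer_mem_iff hV h _).2 ⟨g ^ j * c', ?_⟩⟩
  rw [← show g ^ j = (k : Γ(X, V)) from hj] at hk
  rw [pow_add]
  linear_combination hk

theorem exists_pow_mul_mem_numer (hL : PicF.IsInvertible L) (hs : Mero.IsRegularMero L s)
    {U : X.Opens} (hU : IsAffineOpen U) (g f : Γ(X, U))
    (hf : X.presheaf.map (homOfLE (X.basicOpen_le g)).op f ∈ numerIdeal s (X.basicOpen g)) :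
    ∃ n : ℕ, g ^ n * f ∈ numerIdeal s U := by
  classical
  have hloc : ∀ x : U, ∃ h : Γ(X, U), x.1 ∈ X.basicOpen h ∧ ∃ n : ℕ,
      X.presheaf.map (homOfLE (X.basicOpen_le h)).op (g ^ n * f) ∈ numerIdeal s (X.basicOpen h) := by
    intro x
    obtain ⟨W, hxW, e, a, b, hch⟩ := exists_denomChart hL s hs x.1
    obtain ⟨h, hh, hxh⟩ := hU.exists_basicOpen_le (V := W) ⟨x.1, hxW⟩ x.2
    refine ⟨h, hxh, ?_⟩
    let g' := X.presheaf.map (homOfLE (X.basicOpen_le h)).op g
    have hle : X.basicOpen g' ≤ X.basicOpen g := by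
      rw [Scheme.basicOpen_res]
      exact inf_le_right
    obtain ⟨n, hn⟩ := exists_pow_mul_mem_numer_chart (hU.basicOpen h) (hch.res hh) g'
      (X.presheaf.map (homOfLE (X.basicOpen_le h)).op f) (by
        have h2 := numer_res hle hf
        rw [← CommRingCat.comp_apply, ← Functor.map_comp] at h2 ⊢
        exact h2)
    exact ⟨n, by rw [map_mul, map_pow]; exact hn⟩
  choose h hh n hn using hloc
  obtain ⟨t, ht⟩ := hU.isCompact.elim_finite_subcover (fun x : U => (X.basicOpen (h x) : Set X))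
    (fun x => (X.basicOpen (h x)).isOpen) (fun x hx => Set.mem_iUnion.2 ⟨⟨x, hx⟩, hh ⟨x, hx⟩⟩)
  refine ⟨t.sup n, numer_local fun x hx => ?_⟩
  obtain ⟨i, hit, hxi⟩ := Set.mem_iUnion₂.1 (ht hx)
  refine ⟨X.basicOpen (h i), X.basicOpen_le _, hxi, ?_⟩
  rw [show g ^ t.sup n * f = g ^ (t.sup n - n i) * (g ^ n i * f) by
    rw [← mul_assoc, ← pow_add, Nat.sub_add_cancel (Finset.le_sup hit)], map_mul]
  exact Ideal.mul_mem_left _ _ (hn i)

/-- The ideal sheaf of numerators. -/
def numerSheaf (hL : PicF.IsInvertible L) (hs : Mero.IsRegularMero L s) : X.IdealSheafData where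
  ideal U := numerIdeal s U.1
  map_ideal_basicOpen U g := by
    refine le_antisymm (Ideal.map_le_iff_le_comap.2 fun f hf => numer_res _ hf) fun f hf => ?_
    haveI := U.2.isLocalization_basicOpen g
    obtain ⟨k, f', hf'⟩ := IsLocalization.Away.surj g f
    have h1 : X.presheaf.map (homOfLE (X.basicOpen_le g)).op f' ∈ numerIdeal s (X.basicOpen g) := by
      rw [show X.presheaf.map (homOfLE (X.basicOpen_le g)).op f' = algebraMap Γ(X, U.1) Γ(X, X.basicOpen g) f' from rfl,
        ← hf']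
      exact Ideal.mul_mem_right _ _ hf
    obtain ⟨n, hn⟩ := exists_pow_mul_mem_numer hL hs U.2 g f' h1
    have h2 := Ideal.mem_map_of_mem (algebraMap Γ(X, U.1) Γ(X, X.basicOpen g)) hn
    have hu : IsUnit (algebraMap Γ(X, U.1) Γ(X, X.basicOpen g) (g ^ n) * algebraMap Γ(X, U.1) Γ(X, X.basicOpen g) g ^ k) :=
      IsUnit.mul (by rw [map_pow]; exact (IsLocalization.Away.algebraMap_isUnit g).pow n)
        ((IsLocalization.Away.algebraMap_isUnit g).pow k)
    rw [map_mul, ← hf', mul_comm f, ← mul_assoc] at h2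
    exact (Ideal.unit_mul_mem_iff_mem _ hu).1 h2

/-- The set of definition of the section is off the support of the denominators. -/
theorem support_compl_eq (I : X.IdealSheafData)
    (hI : ∀ V : X.affineOpens, I.ideal V = Mero.denomIdeal L s V.1) :
    ((I.support.compl : X.Opens) : Set X) = Mero.domain L s := by
  ext x
  constructor
  · intro hx
    obtain ⟨V, hV, hxV, hVle⟩ := exists_isAffineOpen_mem_and_subset (U := I.support.compl) (x := x) hx
    have h1 : I.ideal ⟨V, hV⟩ = ⊤ := BlowUpX.ideal_eq_top_of_disjoint I ⟨V, hV⟩ fun y hy => hVle hy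
    rw [hI, Ideal.eq_top_iff_one] at h1
    obtain ⟨m, hm⟩ := h1
    refine ⟨V, hxV, m, fun y => ?_⟩
    have h2 := hm y
    rw [map_one, one_smul] at h2
    exact h2
  · rintro ⟨V, hxV, m, hm⟩ hxI
    obtain ⟨W, hW, hxW, hWle⟩ := exists_isAffineOpen_mem_and_subset (U := V) (x := x) hxV
    have h1 : (1 : Γ(X, W)) ∈ I.ideal ⟨W, hW⟩ := by
      rw [hI]
      refine ⟨AModX.res L hWle m, fun y => ?_⟩
      rw [map_one, one_smul, hm ⟨y.1, hWle y.2⟩]
      exact congrArg (fun t => (LocalizedModule.mk t 1 : Mero.MStalk L y.1))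
        (L.presheaf.germ_res_apply (homOfLE hWle) y.1 y.2 m).symm
    have h2 := (Scheme.IdealSheafData.mem_support_iff_of_mem (U := ⟨W, hW⟩) hxW).1 hxI
    rw [Scheme.mem_zeroLocus_iff] at h2
    exact h2 1 h1 (by rw [Scheme.basicOpen_of_isUnit _ isUnit_one]; exact hxW)

/-- A nonzerodivisor generating an ideal on an affine is a frame of it. -/
theorem isFrame_of_principal {Y : Scheme.{u}} (K : Y.IdealSheafData) (W : Y.affineOpens)
    {κ : Γ(ClSub.idealMod K, W.1)} (hc : OmegaSh.idealSect K W.1 κ ∈ nonZeroDivisors Γ(Y, W.1))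
    (hK : K.ideal W = Ideal.span {OmegaSh.idealSect K W.1 κ}) : InvX.IsFrame κ := by
  intro V hV
  set c := OmegaSh.idealSect K W.1 κ with hcdef
  have hreg : c ∈ Mero.regSub Y W.1 := MeroX.regSub_eq_nonZeroDivisors W.2 ▸ hc
  have hres : OmegaSh.idealSect K V (AModX.res _ hV κ) = AModX.resR hV c := OmegaLib.idealSect_map _ hV κ
  have hinj : Function.Injective fun r : Γ(Y, V) => r • AModX.res (ClSub.idealMod K) hV κ := by
    intro r r' hrr
    have h1 := congrArg (OmegaSh.idealSect K V) hrr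
    simp only [OmegaLib.idealSect_smul, hres] at h1
    refine MeroX.section_eq_of_germ fun y => ?_
    have h2 := congrArg (Y.presheaf.germ V y.1 y.2) h1
    rw [map_mul, map_mul] at h2
    exact (mul_cancel_right_mem_nonZeroDivisors (Mero.regSub_res (homOfLE hV) hreg y)).1 h2
  refine ⟨hinj, fun t => ?_⟩
  have hloc : ∀ p : V, ∃ (D : Y.Opens) (hD : D ≤ V), p.1 ∈ D ∧ ∃ r : Γ(Y, D),
      AModX.res _ hD t = r • AModX.res _ (hD.trans hV) κ := by
    intro p
    obtain ⟨g, hg, hpg⟩ := W.2.exists_basicOpen_le (V := V) ⟨p.1, p.2⟩ (hV p.2)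
    let D : Y.affineOpens := ⟨Y.basicOpen g, W.2.basicOpen g⟩
    have hDW : D.1 ≤ W.1 := Y.basicOpen_le g
    have hmem := OmegaLib.idealSect_mem K D (AModX.res _ hg t)
    rw [← K.map_ideal (U := D) (V := W) hDW, hK, Ideal.map_span, Set.image_singleton,
      Ideal.mem_span_singleton'] at hmem
    obtain ⟨r, hr⟩ := hmem
    refine ⟨D.1, hg, hpg, r, OmegaLib.idealSect_injective K _ ?_⟩
    rw [OmegaLib.idealSect_smul, show OmegaSh.idealSect K D.1 (AModX.res _ (hg.trans hV) κ) = _ from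
      OmegaLib.idealSect_map _ (hg.trans hV) κ]
    exact hr.symm
  choose D hD hpD r hr using hloc
  obtain ⟨R, hR, -⟩ := TopCat.Sheaf.existsUnique_gluing' Y.sheaf D V (fun p => homOfLE (hD p))
    (fun p hp => Opens.mem_iSup.mpr ⟨⟨p, hp⟩, hpD ⟨p, hp⟩⟩) r fun i j => by
      refine MeroX.section_eq_of_germ fun y => ?_
      have hi := congrArg (fun z => AModX.resR (inf_le_left : D i ⊓ D j ≤ D i)
        (OmegaSh.idealSect K (D i) z)) (hr i)
      have hj := congrArg (fun z => AModX.resR (inf_le_right : D i ⊓ D j ≤ D j)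
        (OmegaSh.idealSect K (D j) z)) (hr j)
      have ek : ∀ {U U' : Y.Opens} (hU : U' ≤ U) (z : Γ(ClSub.idealMod K, U)),
          OmegaSh.idealSect K U' (AModX.res _ hU z) = AModX.resR hU (OmegaSh.idealSect K U z) :=
        fun hU z => OmegaLib.idealSect_map _ hU z
      simp only [OmegaLib.idealSect_smul, ek, map_mul, AModX.resR_resR] at hi hj
      have h2 := congrArg (Y.presheaf.germ _ y.1 y.2) (hi.symm.trans hj)
      rw [map_mul, map_mul] at h2
      exact (mul_cancel_right_mem_nonZeroDivisors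
        (Mero.regSub_res (homOfLE ((inf_le_left.trans (hD i)).trans hV)) hreg y)).1 h2
  refine ⟨R, AModX.eq_of_locally _ _ fun p hp => ⟨D ⟨p, hp⟩, hD _, hpD _, ?_⟩⟩
  rw [AModX.res_smul, AModX.res_res, hr]
  exact congrArg (· • _) (hR ⟨p, hp⟩)

/-- A chart of the divisor: on `W` the centre is generated by `g`, the numerators by `c` and `c·b = g·a`. -/
structure Chart {X' : Scheme.{u}} (b : X' ⟶ X) (I N : X.IdealSheafData) (s : Γ(Mero.merMod L, ⊤)) where
  V : X.Opens
  e : Γ(L, V)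
  num : Mero.regSub X V
  den : Mero.regSub X V
  isChart : IsChart L s V e num den
  W : X'.Opens
  affine : IsAffineOpen W
  le : W ≤ b ⁻¹ᵁ V
  κ : Γ(ClSub.idealMod (N.comap b), W)
  μ : Γ(ClSub.idealMod (I.comap b), W)
  κ_frame : InvX.IsFrame κ
  μ_frame : InvX.IsFrame μ
  c_reg : OmegaSh.idealSect (N.comap b) W κ ∈ nonZeroDivisors Γ(X', W)
  ideal_eq : (N.comap b).ideal ⟨W, affine⟩ = Ideal.span {OmegaSh.idealSect (N.comap b) W κ}
  rel : OmegaSh.idealSect (N.comap b) W κ * (b.appLE V W le).hom den.1 =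
    OmegaSh.idealSect (I.comap b) W μ * (b.appLE V W le).hom num.1

variable {X' : Scheme.{u}} {b : X' ⟶ X}

theorem exists_chart (hL : PicF.IsInvertible L) (hs : Mero.IsRegularMero L s) (I : X.IdealSheafData)
    (hI : ∀ V : X.affineOpens, I.ideal V = Mero.denomIdeal L s V.1) (hb : BlowUp.IsBlowUp b I) (x : X') :
    ∃ C : Chart b I (numerSheaf hL hs) s, x ∈ C.W := by
  obtain ⟨W₀, hxW₀, e₀, a₀, b₀, h₀⟩ := exists_denomChart hL s hs (b x)
  obtain ⟨V, hV, hxV, hVle⟩ := exists_isAffineOpen_mem_and_subset (U := W₀) (x := b x) hxW₀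
  have hch := h₀.res (V := V) hVle
  set e := AModX.res L (show V ≤ W₀ from hVle) e₀ with he
  generalize ha : (⟨X.presheaf.map (homOfLE (show V ≤ W₀ from hVle)).op a₀.1, Mero.regSub_res _ a₀.2⟩ :
    Mero.regSub X V) = a at hch
  generalize hbd : (⟨X.presheaf.map (homOfLE (show V ≤ W₀ from hVle)).op b₀.1, Mero.regSub_res _ b₀.2⟩ :
    Mero.regSub X V) = d at hch
  obtain ⟨W, hWV, hxW, f, hf, hW⟩ := ModPairLib.exists_chart_blowUp hb.1 x ⟨V, hV⟩ hxV
  let φ := (b.appLE V W.1 hWV).hom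
  have hgen := ModPairLib.generator_mem_nonZeroDivisors hb.1 hW
  have hnz : ∀ {t : Γ(X, V)}, t ∈ Mero.regSub X V → φ t ∈ nonZeroDivisors Γ(X', W.1) := fun ht =>
    ModPairLib.appLE_mem_nonZeroDivisors_of_isBlowUp hb ⟨V, hV⟩ W hWV hf hW
      (MeroX.regSub_eq_nonZeroDivisors hV ▸ ht)
  rw [hI] at hf
  obtain ⟨c, hc⟩ := (hch.mem_iff f).1 hf
  have hcN : c ∈ numerIdeal s V := (numer_mem_iff hV hch c).2 ⟨f, by linear_combination -hc⟩
  have hrel : φ c * φ d.1 = φ f * φ a.1 := by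
    rw [← map_mul, ← map_mul, hc, mul_comm]
  have hN : ((numerSheaf hL hs).comap b).ideal W = Ideal.span {φ c} := by
    rw [ModPairLib.ideal_comap _ b ⟨V, hV⟩ W hWV]
    refine le_antisymm (Ideal.map_le_iff_le_comap.2 fun h hh => ?_)
      ((Ideal.span_singleton_le_iff_mem _).2 (Ideal.mem_map_of_mem φ hcN))
    obtain ⟨f', hf'⟩ := (numer_mem_iff hV hch h).1 hh
    have hf'I : φ f' ∈ (I.comap b).ideal W := by
      rw [ModPairLib.ideal_comap _ b ⟨V, hV⟩ W hWV, hI]
      exact Ideal.mem_map_of_mem _ ((hch.mem_iff f').2 ⟨h, by linear_combination -hf'⟩)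
    rw [hW, Ideal.mem_span_singleton'] at hf'I
    obtain ⟨t, ht⟩ := hf'I
    change t * φ f = φ f' at ht
    refine Ideal.mem_span_singleton'.2 ⟨t, ?_⟩
    show t * φ c = φ h
    have h1 : φ h * φ d.1 = φ a.1 * φ f' := by rw [← map_mul, ← map_mul, hf']
    refine (mul_cancel_right_mem_nonZeroDivisors (hnz d.2)).1 ?_
    rw [h1, ← ht, mul_assoc, hrel]
    ring
  have hcreg : φ c ∈ nonZeroDivisors Γ(X', W.1) := by
    have h1 : φ c * φ d.1 ∈ nonZeroDivisors Γ(X', W.1) := hrel ▸ mul_mem hgen (hnz a.2)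
    exact (mul_mem_nonZeroDivisors.1 h1).1
  obtain ⟨κ, hκ⟩ := OmegaLib.exists_of_mem ((numerSheaf hL hs).comap b) W (φ c)
    (hN ▸ Ideal.mem_span_singleton_self _)
  obtain ⟨μ, hμ⟩ := OmegaLib.exists_of_mem (I.comap b) W (φ f) (hW ▸ Ideal.mem_span_singleton_self _)
  refine ⟨⟨V, e, a, d, hch, W.1, W.2, hWV, κ, μ, isFrame_of_principal _ W (hκ ▸ hcreg) (hκ ▸ hN), 
    BlowP1.isFrame_of_generator hb.1 W (hμ ▸ hW), hκ ▸ hcreg, hκ ▸ hN, ?_⟩, hxW⟩
  rw [hκ, hμ]
  exact hrel

/-- Cancellation of the pullback of a regular section. -/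
theorem cancel_app {I' : X.IdealSheafData} (hb : BlowUp.IsBlowUp b I') {U : X.Opens} {t : Γ(X, U)} (ht : t ∈ Mero.regSub X U)
    {W : X'.Opens} (hW : W ≤ b ⁻¹ᵁ U) {p q : Γ(X', W)}
    (h : p * (b.appLE U W hW).hom t = q * (b.appLE U W hW).hom t) : p = q := by
  refine MeroX.section_eq_of_germ fun y => ?_
  have h1 := congrArg (X'.presheaf.germ W y.1 y.2) h
  rw [map_mul, map_mul] at h1
  refine (mul_cancel_right_mem_nonZeroDivisors ?_).1 h1
  have h2 := BlowUpX.app_mem_regSub_blowUp hb ht ⟨y.1, hW y.2⟩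
  rw [Scheme.Hom.appLE, CommRingCat.comp_apply, X'.presheaf.germ_res_apply]
  exact h2

/-- The change of chart. -/
theorem chart_transition {I : X.IdealSheafData} (hb : BlowUp.IsBlowUp b I) {N : X.IdealSheafData}
    (C C' : Chart b I N s) {W : X'.Opens} (h : W ≤ C.W) (h' : W ≤ C'.W) :
    ∃ k : Γ(X', W),
      AModX.res _ h' (InvX.tmul (AModX.res _ C'.le (InvX.pullElt b C'.e)) C'.κ) =
        k • AModX.res _ h (InvX.tmul (AModX.res _ C.le (InvX.pullElt b C.e)) C.κ) ∧
      AModX.res _ h' C'.μ = k • AModX.res _ h C.μ := by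
  obtain ⟨u, hu⟩ := C.isChart.1.exists_coord (inf_le_left : C.V ⊓ C'.V ≤ C.V)
    (AModX.res L (inf_le_right : C.V ⊓ C'.V ≤ C'.V) C'.e)
  have hrel : AModX.resR inf_le_right C'.num.1 * u * AModX.resR inf_le_left C.den.1 =
      AModX.resR inf_le_left C.num.1 * AModX.resR (inf_le_right : C.V ⊓ C'.V ≤ C'.V) C'.den.1 := by
    refine MeroX.section_eq_of_germ fun y => ?_
    have h1 := (C'.isChart.2 ⟨y.1, y.2.2⟩).symm.trans (C.isChart.2 ⟨y.1, y.2.1⟩)
    have h2 := congrArg (L.presheaf.germ _ y.1 y.2) hu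
    rw [QCoh.germ_smul'] at h2
    have e1 : ∀ {U U' : X.Opens} (hU : U ≤ U') (hy : y.1 ∈ U) (t : Γ(L, U')),
        L.presheaf.germ U y.1 hy (AModX.res L hU t) = L.presheaf.germ U' y.1 (hU hy) t :=
      fun hU hy t => L.presheaf.germ_res_apply (homOfLE hU) y.1 hy t
    have e2 : ∀ {U U' : X.Opens} (hU : U ≤ U') (hy : y.1 ∈ U) (t : Γ(X, U')),
        X.presheaf.germ U y.1 hy (AModX.resR hU t) = X.presheaf.germ U' y.1 (hU hy) t :=
      fun hU hy t => X.presheaf.germ_res_apply (homOfLE hU) y.1 hy t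
    rw [e1, e1] at h2
    rw [h2, LocalizedModule.mk_eq] at h1
    obtain ⟨w, hw⟩ := h1
    simp only [Submonoid.smul_def, Mero.regGerm, ← mul_smul] at hw
    have h3 := (C.isChart.1.germ_bijective y.2.1).1 hw
    rw [map_mul, map_mul, map_mul, e2, e2, e2, e2]
    refine (mul_cancel_left_mem_nonZeroDivisors (Mero.regStalk_le_nonZeroDivisors y.1 w.2)).1 ?_
    linear_combination h3
  let T := C.V ⊓ C'.V
  have hWT : W ≤ b ⁻¹ᵁ T := fun z hz => ⟨C.le (h hz), C'.le (h' hz)⟩
  obtain ⟨v, hv⟩ := C.κ_frame.exists_coord h (AModX.res _ h' C'.κ)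
  refine ⟨(b.appLE T W hWT).hom u * v, ?_, ?_⟩
  · have hp : AModX.res _ (h'.trans C'.le) (InvX.pullElt b C'.e) =
        (b.appLE T W hWT).hom u • AModX.res _ (h.trans C.le) (InvX.pullElt b C.e) := by
      have h1 := congrArg (fun t => AModX.res ((Scheme.Modules.pullback b).obj L) hWT (InvX.pullElt b t)) hu
      rw [InvX.pullElt_smul, AModX.res_smul, ← InvX.res_pullElt, ← InvX.res_pullElt, AModX.res_res, AModX.res_res] at h1
      exact h1
    rw [InvX.res_tmul, InvX.res_tmul, AModX.res_res, AModX.res_res, hv, hp, InvX.tmul_smul_left,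
      InvX.tmul_smul_right, smul_smul]
  · refine OmegaLib.idealSect_injective (I.comap b) W ?_
    have es : ∀ {K : X'.IdealSheafData} {U : X'.Opens} (hU : W ≤ U) (t : Γ(ClSub.idealMod K, U)),
        OmegaSh.idealSect K W (AModX.res _ hU t) = AModX.resR hU (OmegaSh.idealSect K U t) :=
      fun hU t => OmegaLib.idealSect_map _ hU t
    rw [OmegaLib.idealSect_smul, es, es]
    have hv' := congrArg (OmegaSh.idealSect (N.comap b) W) hv
    rw [OmegaLib.idealSect_smul, es, es] at hv'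
    have ea : ∀ {U : X.Opens} {U' : X'.Opens} (e : U' ≤ b ⁻¹ᵁ U) (hU : W ≤ U') (hT : T ≤ U) (t : Γ(X, U)),
        AModX.resR hU ((b.appLE U U' e).hom t) = (b.appLE T W hWT).hom (AModX.resR hT t) := by
      intro U U' e hU hT t
      show (b.appLE U U' e ≫ X'.presheaf.map (homOfLE hU).op).hom t =
        (X.presheaf.map (homOfLE hT).op ≫ b.appLE T W hWT).hom t
      rw [Scheme.Hom.appLE_map, Scheme.Hom.map_appLE]
    have r1 := congrArg (AModX.resR h) C.rel
    have r2 := congrArg (AModX.resR h') C'.rel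
    rw [map_mul, map_mul, ea C.le h inf_le_left, ea C.le h inf_le_left] at r1
    rw [map_mul, map_mul, ea C'.le h' inf_le_right, ea C'.le h' inf_le_right] at r2
    have r3 := congrArg (b.appLE T W hWT).hom hrel
    rw [map_mul, map_mul, map_mul] at r3
    refine cancel_app hb (U := T) (Mero.regSub_res (homOfLE (inf_le_right : T ≤ C'.V)) C'.den.2) hWT ?_
    refine cancel_app hb (U := T) (Mero.regSub_res (homOfLE (inf_le_left : T ≤ C.V)) C.num.2) hWT ?_
    change _ * (b.appLE T W hWT).hom (AModX.resR inf_le_right C'.den.1) *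
        (b.appLE T W hWT).hom (AModX.resR inf_le_left C.num.1) = _ *
        (b.appLE T W hWT).hom (AModX.resR inf_le_right C'.den.1) *
        (b.appLE T W hWT).hom (AModX.resR inf_le_left C.num.1)
    set φ := (b.appLE T W hWT).hom
    set g' := AModX.resR h' (OmegaSh.idealSect (I.comap b) C'.W C'.μ)
    set g := AModX.resR h (OmegaSh.idealSect (I.comap b) C.W C.μ)
    set c' := AModX.resR h' (OmegaSh.idealSect (N.comap b) C'.W C'.κ)
    set c := AModX.resR h (OmegaSh.idealSect (N.comap b) C.W C.κ)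
    linear_combination (φ u * φ (AModX.resR inf_le_left C.den.1)) * (-r2) + (-g') * r3 +
      (φ u * φ (AModX.resR inf_le_right C'.den.1) * v) * r1 +
      (φ u * φ (AModX.resR inf_le_right C'.den.1) * φ (AModX.resR inf_le_left C.den.1)) * hv'

theorem exists_divisor (hL : PicF.IsInvertible L) (hs : Mero.IsRegularMero L s) (I : X.IdealSheafData)
    (hI : ∀ V : X.affineOpens, I.ideal V = Mero.denomIdeal L s V.1) (hb : BlowUp.IsBlowUp b I) :
    ∃ 𝓓 : X'.IdealSheafData, BlowUp.IsEffCartierIdeal 𝓓 ∧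
      Nonempty (CohB1.tensorMod ((Scheme.Modules.pullback b).obj L) (ClSub.idealMod 𝓓) ≅
        ClSub.idealMod (I.comap b)) := by
  choose C hC using exists_chart hL hs I hI hb
  refine ⟨(numerSheaf hL hs).comap b, fun x => ⟨⟨(C x).W, (C x).affine⟩, hC x, _, (C x).c_reg, (C x).ideal_eq⟩, ?_⟩
  let U : X' → X'.Opens := fun x => (C x).W
  let ε : ∀ x, Γ(CohB1.tensorMod ((Scheme.Modules.pullback b).obj L)
      (ClSub.idealMod ((numerSheaf hL hs).comap b)), U x) := fun x =>
    InvX.tmul (AModX.res _ (C x).le (InvX.pullElt b (C x).e)) (C x).κ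
  let μ : ∀ x, Γ(ClSub.idealMod (I.comap b), U x) := fun x => (C x).μ
  have hcov : ∀ x, ∃ a, x ∈ U a := fun x => ⟨x, hC x⟩
  have hε : ∀ x, InvX.IsFrame (ε x) := fun x =>
    InvX.isFrame_tmul ((InvX.isFrame_pullElt b (C x).isChart.1).res _) (C x).κ_frame
  have hμ : ∀ x, InvX.IsFrame (μ x) := fun x => (C x).μ_frame
  have hc : ∀ (a a' : X') (W : X'.Opens) (ha : W ≤ U a) (ha' : W ≤ U a') (g : Γ(X', W)),
      AModX.res _ ha' (ε a') = g • AModX.res _ ha (ε a) → AModX.res _ ha' (μ a') = g • AModX.res _ ha (μ a) := by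
    intro a a' W ha ha' g hg
    obtain ⟨k, hk, hk'⟩ := chart_transition hb (C a) (C a') ha ha'
    rw [show g = k from (hε a).coord_unique ha (hg.symm.trans hk)]
    exact hk'
  have hc' : ∀ (a a' : X') (W : X'.Opens) (ha : W ≤ U a) (ha' : W ≤ U a') (g : Γ(X', W)),
      AModX.res _ ha' (μ a') = g • AModX.res _ ha (μ a) → AModX.res _ ha' (ε a') = g • AModX.res _ ha (ε a) := by
    intro a a' W ha ha' g hg
    obtain ⟨k, hk, hk'⟩ := chart_transition hb (C a) (C a') ha ha'
    rw [show g = k from (hμ a).coord_unique ha (hg.symm.trans hk')]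
    exact hk
  refine ⟨⟨InvX.ofFrames hcov hε hc, InvX.ofFrames hcov hμ hc', ?_, ?_⟩⟩
  · refine InvX.hom_ext_of_frames U hcov ε hε fun a => ?_
    rw [Scheme.Modules.Hom.comp_app, ConcreteCategory.comp_apply, InvX.ofFrames_app, InvX.ofFrames_app]
    rfl
  · refine InvX.hom_ext_of_frames U hcov μ hμ fun a => ?_
    rw [Scheme.Modules.Hom.comp_app, ConcreteCategory.comp_apply, InvX.ofFrames_app, InvX.ofFrames_app]
    rfl

end Groth.Agent.DenomBlow22
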