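import Groth.Agent.MeroX.AssPts
import Groth.Agent.InvX.Frame
import Groth.Prelude.Def_MeroDiv

/-!
# Meromorphic sections from sections over opens containing the associated points
-/

set_option autoImplicit false
set_option backward.isDefEq.respectTransparency false
set_option backward.isDefEq.respectTransparency.types false
set_option linter.style.haveILetI false

universe u

open CategoryTheory AlgebraicGeometry TopologicalSpace

namespace Groth.Agent.MeroX

open Groth.Agent Groth.Agent.AModX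

variable {X : Scheme.{u}}

theorem germ_resR {U W : X.Opens} (h : W ≤ U) {y : X} (hy : y ∈ W) (r : Γ(X, U)) :
    X.presheaf.germ W y hy (resR h r) = X.presheaf.germ U y (h hy) r :=
  X.presheaf.germ_res_apply (homOfLE h) y hy r

theorem germ_res {M : X.Modules} {U W : X.Opens} (h : W ≤ U) {y : X} (hy : y ∈ W) (m : Γ(M, U)) :
    M.presheaf.germ W y hy (res M h m) = M.presheaf.germ U y (h hy) m :=
  M.presheaf.germ_res_apply (homOfLE h) y hy m

/-- Two functions with the same germs at associated points have the same germs. -/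
theorem germ_eq_of_ass {U : X.Opens} (r r' : Γ(X, U))
    (h : ∀ (y : X) (hy : y ∈ U), AssX y → X.presheaf.germ U y hy r = X.presheaf.germ U y hy r') : r = r' :=
  sub_eq_zero.1 (eq_zero_of_ass _ fun y hy hya => by rw [map_sub, h y hy hya, sub_self])

/-- A function on an open containing the associated points of an affine is a fraction. -/
theorem exists_frac (hfin : FinAss X) {V : X.Opens} (hV : IsAffineOpen V) {W : X.Opens}
    (hW : ∀ y ∈ V, AssX y → y ∈ W) (g : Γ(X, W)) :
    ∃ (a : Γ(X, V)) (b : Mero.regSub X V), ∀ (y : X) (hyV : y ∈ V) (hyW : y ∈ W),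
      X.presheaf.germ V y hyV b.1 * X.presheaf.germ W y hyW g = X.presheaf.germ V y hyV a := by
  obtain ⟨f, hf, hfW⟩ := exists_regular_le hfin hV hW
  haveI := hV.isLocalization_basicOpen f
  obtain ⟨n, a, ha⟩ := IsLocalization.Away.surj f (resR hfW g)
  refine ⟨a, ⟨f ^ n, pow_mem hf n⟩, fun y hyV hyW => ?_⟩
  have key : resR (inf_le_left : V ⊓ W ≤ V) (f ^ n) * resR (inf_le_right : V ⊓ W ≤ W) g =
      resR (inf_le_left : V ⊓ W ≤ V) a := by
    refine germ_eq_of_ass _ _ fun z hz hza => ?_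
    have hzf : z ∈ X.basicOpen f := (X.mem_basicOpen f z hz.1).2 (isUnit_germ_of_regSub hf hz.1 hza)
    rw [map_mul, germ_resR, germ_resR, germ_resR]
    have h1 := congrArg (X.presheaf.germ (X.basicOpen f) z hzf) ha
    simp only [RingHom.algebraMap_toAlgebra, map_mul, map_pow, TopCat.Presheaf.germ_res_apply] at h1
    rw [germ_resR] at h1
    rw [map_pow, mul_comm]
    exact h1
  have h1 := congrArg (X.presheaf.germ (V ⊓ W) y ⟨hyV, hyW⟩) key
  rwa [map_mul, germ_resR, germ_resR, germ_resR] at h1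

/-- Uniqueness of fractions representing a function on an open containing the associated points. -/
theorem frac_unique {V V' W : X.Opens} (hW : ∀ y ∈ V ⊓ V', AssX y → y ∈ W) (g : Γ(X, W))
    {a : Γ(X, V)} {b : Γ(X, V)} {a' b' : Γ(X, V')}
    (h : ∀ (y : X) (hyV : y ∈ V) (hyW : y ∈ W),
      X.presheaf.germ V y hyV b * X.presheaf.germ W y hyW g = X.presheaf.germ V y hyV a)
    (h' : ∀ (y : X) (hyV : y ∈ V') (hyW : y ∈ W),
      X.presheaf.germ V' y hyV b' * X.presheaf.germ W y hyW g = X.presheaf.germ V' y hyV a')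
    (y : X) (hy : y ∈ V) (hy' : y ∈ V') :
    X.presheaf.germ V' y hy' b' * X.presheaf.germ V y hy a =
      X.presheaf.germ V y hy b * X.presheaf.germ V' y hy' a' := by
  have key : resR (inf_le_right : V ⊓ V' ≤ V') b' * resR (inf_le_left : V ⊓ V' ≤ V) a =
      resR (inf_le_left : V ⊓ V' ≤ V) b * resR (inf_le_right : V ⊓ V' ≤ V') a' := by
    refine germ_eq_of_ass _ _ fun z hz hza => ?_
    rw [map_mul, map_mul, germ_resR, germ_resR, germ_resR, germ_resR, ← h z hz.1 (hW z hz hza),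
      ← h' z hz.2 (hW z hz hza), mul_left_comm]
  have h1 := congrArg (X.presheaf.germ (V ⊓ V') y ⟨hy, hy'⟩) key
  rwa [map_mul, map_mul, germ_resR, germ_resR, germ_resR, germ_resR] at h1

/-- A function on an open containing the associated points extends to a meromorphic function. -/
theorem exists_kmod_extend (hfin : FinAss X) {U W : X.Opens} (hW : ∀ y ∈ U, AssX y → y ∈ W) (g : Γ(X, W)) :
    ∃ s : Γ(Mero.kmod X, U), ∀ (y : U) (hyW : y.1 ∈ W),
      s.1 y = LocalizedModule.mk (X.presheaf.germ W y.1 hyW g) 1 := by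
  choose V hV hxV hVU using fun x : U => exists_isAffineOpen_mem_and_subset (x := x.1) (U := U) x.2
  choose a b hab using fun x : U => exists_frac hfin (hV x) (fun y hy hya => hW y (hVU x hy) hya) g
  let val : ∀ y : U, Mero.KStalk X y.1 := fun y =>
    LocalizedModule.mk (X.presheaf.germ (V y) y.1 (hxV y) (a y)) (Mero.regGerm ⟨y.1, hxV y⟩ (b y))
  refine ⟨⟨val, fun x => ⟨V x, hxV x, homOfLE (hVU x), a x, b x, fun y => ?_⟩⟩, fun y hyW => ?_⟩
  · show val ⟨y.1, hVU x y.2⟩ = _
    refine LocalizedModule.mk_eq.2 ⟨1, ?_⟩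
    simp only [Submonoid.smul_def, smul_eq_mul, OneMemClass.coe_one, one_mul]
    exact frac_unique (fun z hz hza => hW z (hVU x hz.2) hza) g (hab ⟨y.1, hVU x y.2⟩) (hab x) y.1 (hxV _) y.2
  · show val y = _
    refine LocalizedModule.mk_eq.2 ⟨1, ?_⟩
    simp only [Submonoid.smul_def, smul_eq_mul, OneMemClass.coe_one, one_mul]
    exact (hab y y.1 (hxV y) hyW).symm

/-- A meromorphic function vanishing at the associated points vanishes. -/
theorem kmod_eq_zero_of_ass {U : X.Opens} (s : Γ(Mero.kmod X, U))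
    (h : ∀ y : U, AssX y.1 → s.1 y = 0) (x : U) : s.1 x = 0 := by
  obtain ⟨W, hxW, i, a, b, hab⟩ := s.2 x
  have ha : a = 0 := eq_zero_of_ass a fun z hz hza => by
    have h1 : (LocalizedModule.mk (X.presheaf.germ W z hz a) (Mero.regGerm ⟨z, hz⟩ b) : Mero.KStalk X z) = 0 :=
      (hab ⟨z, hz⟩).symm.trans (h ⟨z, i.le hz⟩ hza)
    rw [← LocalizedModule.zero_mk (Mero.regGerm (⟨z, hz⟩ : W) b), LocalizedModule.mk_eq] at h1
    obtain ⟨c, hc⟩ := h1
    simp only [Submonoid.smul_def, smul_eq_mul, mul_zero] at hc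
    rw [← mul_assoc, mul_comm] at hc
    exact mem_nonZeroDivisors_iff_right.1 (mul_mem (Mero.regStalk_le_nonZeroDivisors z c.2)
      (Mero.regStalk_le_nonZeroDivisors z (Mero.regGerm (⟨z, hz⟩ : W) b).2)) _ hc
  have h2 : s.1 x = LocalizedModule.mk (X.presheaf.germ W x.1 hxW a) (Mero.regGerm ⟨x.1, hxW⟩ b) := hab ⟨x.1, hxW⟩
  rw [h2, ha, map_zero, LocalizedModule.zero_mk]

/-- An open on which restriction is injective for all smaller opens contains the associated points. -/
theorem ass_mem_of_injective (hfin : FinAss X) {U V : X.Opens}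
    (hV : ∀ W : X.Opens, W ≤ U → Function.Injective ⇑(X.presheaf.map (homOfLE (inf_le_left : W ⊓ V ≤ W)).op))
    (ξ : X) (hξU : ξ ∈ U) (hξ : AssX ξ) : ξ ∈ V := by
  by_contra hξV
  obtain ⟨A, hA, hξA, hAU⟩ := exists_isAffineOpen_mem_and_subset (x := ξ) (U := U) hξU
  have hC : IsClosed (⋃ η ∈ {x : X | x ∈ A ∧ AssX x ∧ ¬ x ⤳ ξ}, closure ({η} : Set X)) :=
    ((hfin A hA).subset fun _ h => ⟨h.1, h.2.1⟩).isClosed_biUnion fun _ _ => isClosed_closure
  obtain ⟨g, hgO, hξg⟩ := hA.exists_basicOpen_le (V := ⟨_, hC.isOpen_compl⟩) ⟨ξ, fun hmem => by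
    obtain ⟨η, ⟨-, -, hne⟩, hcl⟩ := Set.mem_iUnion₂.1 hmem
    exact hne (specializes_iff_mem_closure.2 hcl)⟩ hξA
  have hO : IsAffineOpen (X.basicOpen g) := hA.basicOpen g
  have hgA : X.basicOpen g ≤ A := X.basicOpen_le g
  obtain ⟨t, ht⟩ := WeakAss.mem_weakAss_iff.1
    ((AssPtX.isWeakAssPoint_iff_sections QCoh.isQCoh_structureModule hO hξg).1 hξ)
  let O := X.basicOpen g
  have hres : X.presheaf.map (homOfLE (inf_le_left : O ⊓ V ≤ O)).op (show Γ(X, O) from t) = 0 := by
    refine eq_zero_of_ass _ fun z hz hza => ?_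
    rw [X.presheaf.germ_res_apply]
    have hzξ : z ⤳ ξ := by
      by_contra hn
      exact hgO hz.1 (Set.mem_iUnion₂.2 ⟨z, ⟨hgA hz.1, hza, hn⟩, subset_closure rfl⟩)
    have hne : z ≠ ξ := fun h => hξV (h ▸ hz.2)
    have hnle : ¬ WeakAss.annEl Γ(X, O) t ≤ (hO.primeIdealOf ⟨z, hz.1⟩).asIdeal := fun hle =>
      hne (((AssPtX.primeIdealOf_le_iff hO hξg hz.1).1
        (ht.2 ⟨inferInstance, hle⟩ ((AssPtX.primeIdealOf_le_iff hO hz.1 hξg).2 hzξ))).antisymm hzξ).eq.symm
    obtain ⟨c, hc, hcz⟩ := Set.not_subset.1 hnle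
    have hu : IsUnit (X.presheaf.germ O z hz.1 c) :=
      (X.mem_basicOpen c z hz.1).1 ((QCoh.mem_basicOpen_iff_notMem hO hz.1 c).2 hcz)
    have hct : c * (show Γ(X, O) from t) = 0 := WeakAss.mem_annEl.1 hc
    refine hu.mul_left_cancel ?_
    rw [← map_mul, hct, map_zero, mul_zero]
  have ht0 : (show Γ(X, O) from t) = 0 := hV O (hgA.trans hAU) (hres.trans (map_zero _).symm)
  exact ht.1.1.ne_top (top_unique fun r _ => ht.1.2 (WeakAss.mem_annEl.2 (by
    show r * (show Γ(X, O) from t) = 0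
    rw [ht0, mul_zero])))

variable {L : X.Modules}

/-- The germ of a frame freely generates the stalk. -/
theorem stalk_bijective {U : X.Opens} {e : Γ(L, U)} (he : InvX.IsFrame e) {x : X} (hx : x ∈ U) :
    Function.Bijective (fun r : X.presheaf.stalk x => r • L.presheaf.germ U x hx e) := by
  constructor
  · intro r r' hrr
    rw [← sub_eq_zero]
    have hr : (r - r') • L.presheaf.germ U x hx e = 0 := by
      rw [sub_smul]; exact sub_eq_zero.2 hrr
    obtain ⟨V, hxV, a, hVa⟩ := X.presheaf.exists_germ_eq (r - r')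
    rw [← hVa] at hr ⊢
    have hxW : x ∈ V ⊓ U := ⟨hxV, hx⟩
    rw [← germ_resR (inf_le_left : V ⊓ U ≤ V) hxW, ← germ_res (inf_le_right : V ⊓ U ≤ U) hxW e,
      ← QCoh.germ_smul'] at hr
    obtain ⟨W', hxW', i, j, h2⟩ := L.presheaf.germ_eq x hxW hxW _ 0 (hr.trans (map_zero _).symm)
    have h3 : res L (leOfHom i) (resR (inf_le_left : V ⊓ U ≤ V) a • res L (inf_le_right : V ⊓ U ≤ U) e) = 0 :=
      h2.trans (map_zero _)
    rw [res_smul, res_res, resR_resR] at h3
    have h4 := (he W' ((leOfHom i).trans inf_le_right)).1 (h3.trans (zero_smul _ _).symm)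
    rw [← germ_resR ((leOfHom i).trans inf_le_left) hxW' a, h4, map_zero]
  · intro m
    obtain ⟨V, hxV, n, hn⟩ := L.presheaf.exists_germ_eq m
    obtain ⟨r, hr⟩ := he.exists_coord inf_le_right (res L (inf_le_left : V ⊓ U ≤ V) n)
    refine ⟨X.presheaf.germ (V ⊓ U) x ⟨hxV, hx⟩ r, ?_⟩
    have h1 := congrArg (L.presheaf.germ (V ⊓ U) x ⟨hxV, hx⟩) hr
    rw [QCoh.germ_smul', germ_res, germ_res, hn] at h1
    exact h1.symm

/-- A section of an invertible module over an open containing the associated points, generating the stalks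
there, extends to a regular meromorphic section. -/
theorem hasRegularMero_of_generator (hfin : FinAss X) (hL : PicF.IsInvertible L) {W : X.Opens}
    (hW : ∀ y : X, AssX y → y ∈ W) (m : Γ(L, W))
    (hgen : ∀ (y : X) (hy : y ∈ W), AssX y →
      Submodule.span (X.presheaf.stalk y) {L.presheaf.germ W y hy m} = ⊤) :
    Mero.HasRegularMero L := by
  have loc : ∀ x : X, ∃ (V : X.Opens) (_ : IsAffineOpen V) (_ : x ∈ V) (e : Γ(L, V)), InvX.IsFrame e := fun x => by
    obtain ⟨U, hx, e, he⟩ := InvX.exists_frame hL x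
    obtain ⟨V, hV, hxV, hVU⟩ := exists_isAffineOpen_mem_and_subset (x := x) (U := U) hx
    exact ⟨V, hV, hxV, _, he.res hVU⟩
  choose V hV hxV e he using loc
  have hco : ∀ x : X, ∃ g : Γ(X, V x ⊓ W), res L (inf_le_right : V x ⊓ W ≤ W) m =
      g • res L (inf_le_left : V x ⊓ W ≤ V x) (e x) := fun x => (he x).exists_coord inf_le_left _
  choose g hg using hco
  choose a b hab using fun x : X => exists_frac hfin (hV x) (W := V x ⊓ W) (fun y hy hya => ⟨hy, hW y hya⟩) (g x)
  let M : ∀ x : X, Γ(L, V x) := fun x => a x • e x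
  have hM : ∀ (x y : X) (hy : y ∈ V x) (hyW : y ∈ W),
      X.presheaf.germ (V x) y hy (b x).1 • L.presheaf.germ W y hyW m = L.presheaf.germ (V x) y hy (M x) := by
    intro x y hy hyW
    have h1 := congrArg (L.presheaf.germ (V x ⊓ W) y ⟨hy, hyW⟩) (hg x)
    rw [QCoh.germ_smul', germ_res, germ_res] at h1
    rw [h1, ← mul_smul, hab x y hy ⟨hy, hyW⟩, QCoh.germ_smul']
  have huniq : ∀ (x x' y : X) (hy : y ∈ V x) (hy' : y ∈ V x'),
      X.presheaf.germ (V x') y hy' (b x').1 • L.presheaf.germ (V x) y hy (M x) =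
        X.presheaf.germ (V x) y hy (b x).1 • L.presheaf.germ (V x') y hy' (M x') := by
    intro x x' y hy hy'
    let D := V x ⊓ V x'
    obtain ⟨r, hr⟩ := (he x).exists_coord (inf_le_left : D ≤ V x)
      (resR (inf_le_right : D ≤ V x') (b x').1 • res L inf_le_left (M x) -
        resR (inf_le_left : D ≤ V x) (b x).1 • res L inf_le_right (M x'))
    have hr0 : r = 0 := by
      refine eq_zero_of_ass r fun z hz hza => (stalk_bijective (he x) hz.1).1 ?_
      have h1 := congrArg (L.presheaf.germ D z hz) hr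
      rw [map_sub, QCoh.germ_smul', QCoh.germ_smul', QCoh.germ_smul', germ_resR, germ_resR, germ_res, germ_res,
        germ_res, ← hM x z hz.1 (hW z hza), ← hM x' z hz.2 (hW z hza), ← mul_smul, ← mul_smul,
        mul_comm, sub_self] at h1
      simpa using h1.symm
    rw [hr0, zero_smul, sub_eq_zero] at hr
    have h1 := congrArg (L.presheaf.germ D y ⟨hy, hy'⟩) hr
    rwa [QCoh.germ_smul', QCoh.germ_smul', germ_resR, germ_resR, germ_res, germ_res] at h1
  have hreg : ∀ x : X, a x ∈ Mero.regSub X (V x) := by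
    refine fun x => AssPtX.germ_mem_nonZeroDivisors_of_weakAss _ fun z hz hza => ?_
    obtain ⟨c, hc⟩ := Submodule.mem_span_singleton.1
      ((hgen z (hW z hza) hza).symm ▸ Submodule.mem_top : L.presheaf.germ (V x) z hz (e x) ∈ _)
    have h1 := congrArg (L.presheaf.germ (V x ⊓ W) z ⟨hz, hW z hza⟩) (hg x)
    rw [QCoh.germ_smul', germ_res, germ_res] at h1
    rw [h1, ← mul_smul] at hc
    have h2 : c * X.presheaf.germ (V x ⊓ W) z ⟨hz, hW z hza⟩ (g x) = 1 :=
      (stalk_bijective (he x) hz).1 (hc.trans (one_smul _ _).symm)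
    rw [← hab x z hz ⟨hz, hW z hza⟩]
    exact (isUnit_germ_of_regSub (b x).2 hz hza).mul (.of_mul_eq_one_right c h2)
  let val : ∀ y : (⊤ : X.Opens), Mero.MStalk L y.1 := fun y =>
    LocalizedModule.mk (L.presheaf.germ (V y.1) y.1 (hxV y.1) (M y.1)) (Mero.regGerm ⟨y.1, hxV y.1⟩ (b y.1))
  refine ⟨⟨val, fun x => ⟨V x.1, hxV x.1, homOfLE le_top, M x.1, b x.1, fun y => ?_⟩⟩, fun x q hq => ?_⟩
  · show val ⟨y.1, trivial⟩ = _
    refine LocalizedModule.mk_eq.2 ⟨1, ?_⟩
    simp only [Submonoid.smul_def, OneMemClass.coe_one, one_smul]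
    exact huniq y.1 x.1 y.1 (hxV y.1) y.2
  · obtain ⟨c, d, rfl⟩ : ∃ c d, q = LocalizedModule.mk c d :=
      LocalizedModule.induction_on (fun c d => ⟨c, d, rfl⟩) q
    have hq' : (LocalizedModule.mk (c • L.presheaf.germ (V x) x (hxV x) (M x))
        (d * Mero.regGerm ⟨x, hxV x⟩ (b x)) : Mero.MStalk L x) = 0 := by
      rw [← LocalizedModule.mk_smul_mk]
      exact hq
    rw [← LocalizedModule.zero_mk (d * Mero.regGerm ⟨x, hxV x⟩ (b x)), LocalizedModule.mk_eq] at hq'
    obtain ⟨u, hu⟩ := hq'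
    simp only [Submonoid.smul_def, smul_zero, Submonoid.coe_mul, M, QCoh.germ_smul', ← mul_smul] at hu
    have hu0 := (stalk_bijective (he x) (hxV x)).1 (hu.trans (zero_smul _ _).symm)
    have hc0 : c = 0 := by
      refine mem_nonZeroDivisors_iff_right.1 (mul_mem (mul_mem (Mero.regStalk_le_nonZeroDivisors x u.2)
        (mul_mem (Mero.regStalk_le_nonZeroDivisors x d.2)
          (Mero.regStalk_le_nonZeroDivisors x (Mero.regGerm (⟨x, hxV x⟩ : V x) (b x)).2)))
        (hreg x ⟨x, hxV x⟩)) c ?_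
      rw [← hu0]; ring
    rw [hc0, LocalizedModule.zero_mk]

end Groth.Agent.MeroX
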