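import Groth.Agent.DivX.MeroMod
import Groth.Agent.InvX.GenLocusPull

/-!
# Divisors and regular meromorphic sections of invertible modules
-/

set_option autoImplicit false
set_option backward.isDefEq.respectTransparency false
set_option backward.isDefEq.respectTransparency.types false
set_option linter.style.haveILetI false

universe u

open CategoryTheory AlgebraicGeometry TopologicalSpace

namespace Groth.Agent.MeroX

open Groth.Agent

variable {X : Scheme.{u}} {L : X.Modules}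

theorem kmk_smul {y : X} (a : X.presheaf.stalk y) (b : Mero.regStalk X y) (m : L.presheaf.stalk y)
    (b' : Mero.regStalk X y) :
    (LocalizedModule.mk a b : Mero.KStalk X y) • (LocalizedModule.mk m b' : Mero.MStalk L y) =
      LocalizedModule.mk (a • m) (b * b') :=
  LocalizedModule.mk_smul_mk a m b b'

theorem exists_kmk {y : X} (u : Mero.KStalk X y) :
    ∃ (a : X.presheaf.stalk y) (b : Mero.regStalk X y), u = LocalizedModule.mk a b :=
  LocalizedModule.induction_on (β := fun u => ∃ (a : X.presheaf.stalk y) (b : Mero.regStalk X y), u = LocalizedModule.mk a b)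
    (fun a b => ⟨a, b, rfl⟩) u

theorem germ_ne {y : X} {a : X.presheaf.stalk y} {b : Mero.regStalk X y}
    (u : Mero.KStalk X y) (hu : u = LocalizedModule.mk a b) (m : L.presheaf.stalk y) :
    u • (LocalizedModule.mk m 1 : Mero.MStalk L y) = LocalizedModule.mk (a • m) b := by
  rw [hu, kmk_smul, mul_one]

/-- An invertible module with a regular meromorphic section is `O(D)` for a divisor. -/
theorem exists_divisor_of_regularMero (hL : PicF.IsInvertible L) (h : Mero.HasRegularMero L) :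
    ∃ D : Mero.Divisor X, Nonempty (L ≅ Mero.divMod D) := by
  obtain ⟨s, hs⟩ := h
  -- local form of the section
  have loc : ∀ x : X, ∃ (W : X.Opens) (_ : x ∈ W) (e : Γ(L, W)), InvX.IsFrame e ∧
      ∃ f : (Γ(Mero.kmod X, W))ˣ, ∀ y : W, s.1 ⟨y.1, trivial⟩ =
        (f : Γ(Mero.kmod X, W)).1 y • (LocalizedModule.mk (L.presheaf.germ W y.1 y.2 e) 1 : Mero.MStalk L y.1) := by
    intro x
    obtain ⟨U, hxU, e, he⟩ := InvX.exists_frame hL x
    obtain ⟨W₀, hxW, i, M, b, hMb⟩ := s.2 ⟨x, trivial⟩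
    let W := W₀ ⊓ U
    obtain ⟨a, ha⟩ := he.exists_coord (inf_le_right : W ≤ U) (AModX.res L (inf_le_left : W ≤ W₀) M)
    let b' : Mero.regSub X W := ⟨X.presheaf.map (homOfLE (inf_le_left : W ≤ W₀)).op b.1, Mero.regSub_res _ b.2⟩
    have hval : ∀ y : W, s.1 ⟨y.1, trivial⟩ =
        LocalizedModule.mk (X.presheaf.germ W y.1 y.2 a • L.presheaf.germ W y.1 y.2 (AModX.res L inf_le_right e))
          (Mero.regGerm y b') := by
      intro y
      have h1 : s.1 ⟨y.1, trivial⟩ = LocalizedModule.mk (L.presheaf.germ W₀ y.1 y.2.1 M) (Mero.regGerm ⟨y.1, y.2.1⟩ b) :=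
        hMb ⟨y.1, y.2.1⟩
      rw [h1]
      refine Mero.mk_congr ?_ (X.presheaf.germ_res_apply _ y.1 y.2 b.1).symm
      have h2 := congrArg (L.presheaf.germ W y.1 y.2) ha
      rw [QCoh.germ_smul'] at h2
      exact (L.presheaf.germ_res_apply (homOfLE inf_le_left) y.1 y.2 M).symm.trans h2
    have hareg : a ∈ Mero.regSub X W := by
      intro y
      rw [mem_nonZeroDivisors_iff_right]
      intro c hc
      refine Mero.algebraMap_KStalk_injective y.1 ((hs y.1 _ ?_).trans (map_zero _).symm)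
      rw [hval y]
      show (LocalizedModule.mk c 1 : Mero.KStalk X y.1) • _ = _
      rw [kmk_smul, ← mul_smul, hc, zero_smul, LocalizedModule.zero_mk]
    let fv : Γ(Mero.kmod X, W) :=
      ⟨fun y => LocalizedModule.mk (X.presheaf.germ W y.1 y.2 a) (Mero.regGerm y b'),
        fun y => ⟨W, y.2, 𝟙 _, a, b', fun z => rfl⟩⟩
    let gv : Γ(Mero.kmod X, W) :=
      ⟨fun y => LocalizedModule.mk (X.presheaf.germ W y.1 y.2 b'.1) (Mero.regGerm y ⟨a, hareg⟩),
        fun y => ⟨W, y.2, 𝟙 _, b'.1, ⟨a, hareg⟩, fun z => rfl⟩⟩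
    have hfg : fv * gv = 1 := Subtype.ext <| funext fun y => by
      refine LocalizedModule.mk_mul_mk.trans ?_
      rw [Mero.kmod_one_apply, ← Mero.mk_self_eq_one (Mero.regGerm y ⟨a, hareg⟩ * Mero.regGerm y b')]
      exact Mero.mk_congr rfl (by rw [mul_comm])
    refine ⟨W, ⟨hxW, hxU⟩, AModX.res L inf_le_right e, he.res _, ⟨fv, gv, hfg, (mul_comm _ _).trans hfg⟩, fun y => ?_⟩
    rw [hval y]
    exact (germ_ne _ rfl _).symm
  choose W hxW e he f hf using loc
  -- independence of the chart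
  have hcls : ∀ (x x' : X) (y : X) (hy : y ∈ W x) (hy' : y ∈ W x'),
      Mero.germOf (f x) ⟨y, hy⟩ = Mero.germOf (f x') ⟨y, hy'⟩ := by
    intro x x' y hy hy'
    obtain ⟨v, hv⟩ := ((he x).germ_bijective hy).2 (L.presheaf.germ (W x') y hy' (e x'))
    obtain ⟨v', hv'⟩ := ((he x').germ_bijective hy').2 (L.presheaf.germ (W x) y hy (e x))
    simp only at hv hv'
    have hvv : v' * v = 1 := ((he x).germ_bijective hy).1 (by
      show (v' * v) • L.presheaf.germ (W x) y hy (e x) = (1 : X.presheaf.stalk y) • L.presheaf.germ (W x) y hy (e x)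
      rw [mul_smul, hv, hv', one_smul])
    have heq : (f x : Γ(Mero.kmod X, W x)).1 ⟨y, hy⟩ = (f x' : Γ(Mero.kmod X, W x')).1 ⟨y, hy'⟩ *
        algebraMap (X.presheaf.stalk y) (Mero.KStalk X y) v := by
      rw [← sub_eq_zero]
      by_contra hne
      apply hne
      have h1 := (hf x ⟨y, hy⟩).symm.trans (hf x' ⟨y, hy'⟩)
      rw [← hv] at h1
      obtain ⟨a₁, b₁, hab₁⟩ : ∃ a₁ b₁, (f x : Γ(Mero.kmod X, W x)).1 ⟨y, hy⟩ = LocalizedModule.mk a₁ b₁ :=
        exists_kmk _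
      obtain ⟨a₂, b₂, hab₂⟩ : ∃ a₂ b₂, (f x' : Γ(Mero.kmod X, W x')).1 ⟨y, hy'⟩ = LocalizedModule.mk a₂ b₂ :=
        exists_kmk _
      rw [germ_ne _ hab₁, germ_ne _ hab₂, LocalizedModule.mk_eq] at h1
      obtain ⟨c, hc⟩ := h1
      simp only [Submonoid.smul_def, ← mul_smul] at hc
      have hc' := ((he x).germ_bijective hy).1 hc
      rw [sub_eq_zero, hab₁, hab₂]
      refine Eq.trans ?_ LocalizedModule.mk_mul_mk.symm
      refine LocalizedModule.mk_eq.2 ⟨c, ?_⟩
      simp only [Submonoid.smul_def, smul_eq_mul, Submonoid.coe_mul, OneMemClass.coe_one, mul_one]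
      simp only [← mul_assoc] at hc' ⊢
      exact hc'
    refine QuotientGroup.eq.2 ⟨⟨v', v, hvv, (mul_comm _ _).trans hvv⟩, Units.ext ?_⟩
    show algebraMap (X.presheaf.stalk y) (Mero.KStalk X y) v' =
      ((Units.map (Mero.evalK X (W x) ⟨y, hy⟩).toMonoidHom (f x))⁻¹ : (Mero.KStalk X y)ˣ) *
        (f x' : Γ(Mero.kmod X, W x')).1 ⟨y, hy'⟩
    rw [Units.eq_inv_mul_iff_mul_eq]
    show (f x : Γ(Mero.kmod X, W x)).1 ⟨y, hy⟩ * _ = _
    rw [heq, mul_assoc, ← map_mul, mul_comm v, hvv, map_one, mul_one]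
  let D : Mero.Divisor X := ⟨fun y => Mero.germOf (f y) ⟨y, hxW y⟩,
    fun x => ⟨W x, hxW x, f x, fun y => hcls y.1 x y.1 (hxW y.1) y.2⟩⟩
  have hD : ∀ (x : X) (y : W x), D.1 y.1 = Mero.germOf (f x) y := fun x y => hcls y.1 x y.1 (hxW y.1) y.2
  -- the pointwise inverse of the section
  have huniq : ∀ (y : X) (t t' : Mero.KStalk X y), t • s.1 ⟨y, trivial⟩ = t' • s.1 ⟨y, trivial⟩ → t = t' :=
    fun y t t' h => sub_eq_zero.1 (hs y _ (by rw [sub_smul, h, sub_self]))
  have hex : ∀ (y : X) (m : L.presheaf.stalk y), ∃ t : Mero.KStalk X y,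
      t • s.1 ⟨y, trivial⟩ = (LocalizedModule.mk m 1 : Mero.MStalk L y) := by
    intro y m
    obtain ⟨r, rfl⟩ := ((he y).germ_bijective (hxW y)).2 m
    refine ⟨algebraMap _ _ r * ((f y)⁻¹ : (Γ(Mero.kmod X, W y))ˣ).1.1 ⟨y, hxW y⟩, ?_⟩
    rw [hf y ⟨y, hxW y⟩, ← mul_smul, mul_assoc, DivX.unit_val_mul, mul_one]
    show (LocalizedModule.mk r 1 : Mero.KStalk X y) • _ = _
    exact (kmk_smul _ _ _ _).trans (Mero.mk_congr rfl (by rw [mul_one]))
  choose T hT using hex
  have hchart : ∀ (x : X) (y : W x) (r : X.presheaf.stalk y.1) (m : L.presheaf.stalk y.1),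
      m = r • L.presheaf.germ (W x) y.1 y.2 (e x) →
      T y.1 m = algebraMap _ _ r * ((f x)⁻¹ : (Γ(Mero.kmod X, W x))ˣ).1.1 y := by
    intro x y r m hm
    refine huniq y.1 _ _ ((hT y.1 m).trans ?_)
    rw [hf x y, ← mul_smul, mul_assoc, DivX.unit_val_mul, mul_one, hm]
    show _ = (LocalizedModule.mk r 1 : Mero.KStalk X y.1) • _
    exact ((kmk_smul _ _ _ _).trans (Mero.mk_congr rfl (by rw [mul_one]))).symm
  have hpred : ∀ (U : X.Opens) (m : Γ(L, U)),
      (Mero.kLoc X).pred (fun y : U => T y.1 (L.presheaf.germ U y.1 y.2 m)) := by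
    intro U m p
    obtain ⟨r, hr⟩ := (he p.1).exists_coord (inf_le_right : U ⊓ W p.1 ≤ W p.1) (AModX.res L inf_le_left m)
    obtain ⟨O, hpO, i, a, b, hab⟩ := ((f p.1)⁻¹ : (Γ(Mero.kmod X, W p.1))ˣ).1.2 ⟨p.1, hxW p.1⟩
    refine ⟨U ⊓ O, ⟨p.2, hpO⟩, homOfLE inf_le_left,
      X.presheaf.map (homOfLE (le_inf inf_le_left (inf_le_right.trans i.le) : U ⊓ O ≤ U ⊓ W p.1)).op r *
        X.presheaf.map (homOfLE (inf_le_right : U ⊓ O ≤ O)).op a,
      ⟨_, Mero.regSub_res (homOfLE (inf_le_right : U ⊓ O ≤ O)) b.2⟩, fun z => ?_⟩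
    have hzW : z.1 ∈ W p.1 := i.le z.2.2
    have hm : L.presheaf.germ U z.1 z.2.1 m =
        X.presheaf.germ (U ⊓ W p.1) z.1 ⟨z.2.1, hzW⟩ r • L.presheaf.germ (W p.1) z.1 hzW (e p.1) := by
      have h2 := congrArg (L.presheaf.germ (U ⊓ W p.1) z.1 ⟨z.2.1, hzW⟩) hr
      rw [QCoh.germ_smul'] at h2
      refine (L.presheaf.germ_res_apply (homOfLE inf_le_left) z.1 ⟨z.2.1, hzW⟩ m).symm.trans (h2.trans ?_)
      exact congrArg (_ • ·) (L.presheaf.germ_res_apply (homOfLE inf_le_right) z.1 ⟨z.2.1, hzW⟩ (e p.1))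
    show T z.1 (L.presheaf.germ U z.1 z.2.1 m) = _
    rw [hchart p.1 ⟨z.1, hzW⟩ _ _ hm]
    have h3 : ((f p.1)⁻¹ : (Γ(Mero.kmod X, W p.1))ˣ).1.1 ⟨z.1, hzW⟩ =
        LocalizedModule.mk (X.presheaf.germ O z.1 z.2.2 a) (Mero.regGerm ⟨z.1, z.2.2⟩ b) := hab ⟨z.1, z.2.2⟩
    rw [h3]
    refine LocalizedModule.mk_mul_mk.trans (Mero.mk_congr ?_ ?_)
    · rw [map_mul, TopCat.Presheaf.germ_res_apply, TopCat.Presheaf.germ_res_apply]
      rfl
    · rw [one_mul]; exact (X.presheaf.germ_res_apply _ z.1 z.2 b.1).symm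
  have hdiv : ∀ (y : X) (m : L.presheaf.stalk y), Mero.DivCond D y (T y m) := by
    intro y m
    obtain ⟨r, rfl⟩ := ((he y).germ_bijective (hxW y)).2 m
    refine DivX.divCond_of_rep (g := Units.map (Mero.evalK X (W y) ⟨y, hxW y⟩).toMonoidHom (f y)) (hD y ⟨y, hxW y⟩) ⟨r, ?_⟩
    show _ = T y _ * (f y : Γ(Mero.kmod X, W y)).1 ⟨y, hxW y⟩
    rw [hchart y ⟨y, hxW y⟩ r _ rfl, mul_assoc, DivX.unit_val_mul, mul_one]
  have hadd : ∀ (y : X) (m m' : L.presheaf.stalk y), T y (m + m') = T y m + T y m' := fun y m m' =>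
    huniq y _ _ (by
      rw [hT, add_smul, hT, hT, LocalizedModule.mk_add_mk]
      simp)
  have hsmul : ∀ (y : X) (r : X.presheaf.stalk y) (m : L.presheaf.stalk y), T y (r • m) = r • T y m :=
    fun y r m => huniq y _ _ (by rw [hT, smul_assoc, hT, LocalizedModule.smul'_mk])
  let φ : L ⟶ Mero.divMod D :=
    ⟨PresheafOfModules.homMk (M₁ := L.val) (M₂ := (Mero.divMod D).val)
      { app := fun U => AddCommGrpCat.ofHom
          { toFun := fun (m : Γ(L, U.unop)) =>
              (⟨fun y => T y.1 (L.presheaf.germ U.unop y.1 y.2 m), hpred U.unop m, fun y => hdiv y.1 _⟩ :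
                Γ(Mero.divMod D, U.unop))
            map_zero' := Subtype.ext <| funext fun y => huniq y.1 _ _ (by
              show T y.1 (L.presheaf.germ U.unop y.1 y.2 0) • _ = (0 : Mero.KStalk X y.1) • _
              rw [map_zero, hT, zero_smul, LocalizedModule.zero_mk])
            map_add' := fun m m' => Subtype.ext <| funext fun y =>
              (congrArg (T y.1) (map_add _ _ _)).trans (hadd y.1 _ _) }
        naturality := fun {U V} i => by
          ext m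
          exact Subtype.ext <| funext fun y =>
            congrArg (T y.1) (TopCat.Presheaf.germ_res_apply' L.presheaf i y.1 y.2 m) }
      (fun U r m => Subtype.ext <| funext fun y =>
        (congrArg (T y.1) (QCoh.germ_smul' L y.2 r m)).trans (hsmul y.1 _ _))⟩
  haveI : IsIso φ := DivX.isIso_of_frames φ fun x => by
    refine ⟨W x, hxW x, e x, he x, ?_⟩
    have : φ.app (W x) (e x) = DivX.gen (f x) (hD x) := Subtype.ext <| funext fun y => by
      show T y.1 (L.presheaf.germ (W x) y.1 y.2 (e x)) = _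
      rw [hchart x y 1 _ (one_smul _ _).symm, map_one, one_mul]
      rfl
    rw [this]
    exact DivX.isFrame_gen _ _
  exact ⟨D, ⟨asIso φ⟩⟩

/-- `O(D)` has a regular meromorphic section. -/
theorem hasRegularMero_of_iso_divMod (D : Mero.Divisor X) (ψ : L ≅ Mero.divMod D) : Mero.HasRegularMero L := by
  choose U hU f hf hfr using fun x : X => DivX.exists_gen_frame D x
  let e : ∀ x : X, Γ(L, U x) := fun x => ψ.inv.app (U x) (DivX.gen (f x) (hf x))
  have he : ∀ x, InvX.IsFrame (e x) := fun x => (hfr x).map_iso ψ.symm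
  let val : ∀ y : (⊤ : X.Opens), Mero.MStalk L y.1 := fun y =>
    (f y.1 : Γ(Mero.kmod X, U y.1)).1 ⟨y.1, hU y.1⟩ •
      (LocalizedModule.mk (L.presheaf.germ (U y.1) y.1 (hU y.1) (e y.1)) 1 : Mero.MStalk L y.1)
  have key : ∀ (x y : X) (hy : y ∈ U x), val ⟨y, trivial⟩ =
      (f x : Γ(Mero.kmod X, U x)).1 ⟨y, hy⟩ • (LocalizedModule.mk (L.presheaf.germ (U x) y hy (e x)) 1 : Mero.MStalk L y) := by
    intro x y hy
    let O := U y ⊓ U x
    have hyO : y ∈ O := ⟨hU y, hy⟩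
    obtain ⟨r, hr⟩ := (hfr x).exists_coord (inf_le_right : O ≤ U x)
      (AModX.res (Mero.divMod D) (inf_le_left : O ≤ U y) (DivX.gen (f y) (hf y)))
    have hre : L.presheaf.germ (U y) y (hU y) (e y) =
        X.presheaf.germ O y hyO r • L.presheaf.germ (U x) y hy (e x) := by
      have h1 : AModX.res L (inf_le_left : O ≤ U y) (e y) = r • AModX.res L (inf_le_right : O ≤ U x) (e x) := by
        rw [← AModX.app_res, ← AModX.app_res, hr, Scheme.Modules.Hom.app_smul]
      have h2 := congrArg (L.presheaf.germ O y hyO) h1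
      rw [QCoh.germ_smul'] at h2
      refine (L.presheaf.germ_res_apply (homOfLE inf_le_left) y hyO (e y)).symm.trans (h2.trans ?_)
      exact congrArg (_ • ·) (L.presheaf.germ_res_apply (homOfLE inf_le_right) y hyO (e x))
    have hk : ((f y)⁻¹ : (Γ(Mero.kmod X, U y))ˣ).1.1 ⟨y, hU y⟩ =
        algebraMap _ (Mero.KStalk X y) (X.presheaf.germ O y hyO r) * ((f x)⁻¹ : (Γ(Mero.kmod X, U x))ˣ).1.1 ⟨y, hy⟩ := by
      have h3 := congrArg (fun t : Γ(Mero.divMod D, O) => t.1 ⟨y, hyO⟩) hr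
      rw [← Algebra.smul_def]
      exact h3
    show _ • LocalizedModule.mk _ 1 = _
    rw [hre, ← LocalizedModule.smul'_mk, ← algebraMap_smul (Mero.KStalk X y) (X.presheaf.germ O y hyO r),
      ← mul_smul]
    congr 1
    calc (f y : Γ(Mero.kmod X, U y)).1 ⟨y, hU y⟩ * algebraMap _ _ (X.presheaf.germ O y hyO r)
        = (f y : Γ(Mero.kmod X, U y)).1 ⟨y, hU y⟩ * ((algebraMap _ _ (X.presheaf.germ O y hyO r) *
            ((f x)⁻¹ : (Γ(Mero.kmod X, U x))ˣ).1.1 ⟨y, hy⟩) * (f x : Γ(Mero.kmod X, U x)).1 ⟨y, hy⟩) := by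
          rw [mul_assoc (algebraMap _ _ _), DivX.unit_val_mul, mul_one]
      _ = (f x : Γ(Mero.kmod X, U x)).1 ⟨y, hy⟩ := by
          rw [← hk, ← mul_assoc, mul_comm ((f y : Γ(Mero.kmod X, U y)).1 _), DivX.unit_val_mul, one_mul]
  have hpred : (Mero.mLoc L).pred val := by
    intro x
    obtain ⟨O, hxO, i, a, b, hab⟩ := (f x.1 : Γ(Mero.kmod X, U x.1)).2 ⟨x.1, hU x.1⟩
    refine ⟨O, hxO, homOfLE le_top, a • AModX.res L i.le (e x.1), b, fun z => ?_⟩
    show val ⟨z.1, trivial⟩ = _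
    rw [key x.1 z.1 (i.le z.2)]
    have h3 : (f x.1 : Γ(Mero.kmod X, U x.1)).1 ⟨z.1, i.le z.2⟩ =
        LocalizedModule.mk (X.presheaf.germ O z.1 z.2 a) (Mero.regGerm z b) := hab z
    rw [germ_ne _ h3, QCoh.germ_smul']
    exact Mero.mk_congr (congrArg (_ • ·) (L.presheaf.germ_res_apply i z.1 z.2 (e x.1)).symm) rfl
  refine ⟨⟨val, hpred⟩, fun x q hq => ?_⟩
  have hq' : (q * (f x : Γ(Mero.kmod X, U x)).1 ⟨x, hU x⟩) •
      (LocalizedModule.mk (L.presheaf.germ (U x) x (hU x) (e x)) 1 : Mero.MStalk L x) = 0 := by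
    rw [mul_smul]; exact hq
  obtain ⟨c, d, hcd⟩ : ∃ c d, q * (f x : Γ(Mero.kmod X, U x)).1 ⟨x, hU x⟩ = LocalizedModule.mk c d :=
        exists_kmk _
  rw [germ_ne _ hcd, ← LocalizedModule.zero_mk d, LocalizedModule.mk_eq] at hq'
  obtain ⟨u, hu⟩ := hq'
  simp only [Submonoid.smul_def, smul_zero, ← mul_smul] at hu
  have hc := ((he x).germ_bijective (hU x)).1 (hu.trans (zero_smul _ _).symm)
  rw [mul_comm] at hc
  have hc0 : c = 0 := mem_nonZeroDivisors_iff_right.1 (mul_mem (Mero.regStalk_le_nonZeroDivisors x u.2)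
    (Mero.regStalk_le_nonZeroDivisors x d.2)) c (by linear_combination hc)
  rw [hc0, LocalizedModule.zero_mk] at hcd
  exact (IsUnit.mul_left_eq_zero (IsUnit.of_mul_eq_one _ ((mul_comm _ _).trans (DivX.unit_val_mul (f x) ⟨x, hU x⟩)))).1 hcd

end Groth.Agent.MeroX
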