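import Groth.Agent.MeroX.Dense
import Groth.Agent.ProjUPX.Affine

/-!
# Existence of regular meromorphic sections of invertible modules
-/

set_option autoImplicit false
set_option backward.isDefEq.respectTransparency false
set_option backward.isDefEq.respectTransparency.types false
set_option linter.style.haveILetI false

universe u

open CategoryTheory AlgebraicGeometry TopologicalSpace

namespace Groth.Agent.MeroX

open Groth.Agent Groth.Agent.AModX

variable {X : Scheme.{u}} {L : X.Modules}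

theorem closure_mem_components {x : X} (hx : ∀ y : X, y ⤳ x → y = x) :
    closure ({x} : Set X) ∈ irreducibleComponents X := by
  refine ⟨isIrreducible_singleton.closure, fun Z hZ hle => ?_⟩
  obtain ⟨η, hη⟩ := QuasiSober.sober (IsIrreducible.closure hZ) isClosed_closure
  have h2 : η = x := hx η (hη.specializes (subset_closure (hle (subset_closure rfl))))
  intro z hz
  rw [← h2]
  exact (hη.def ▸ subset_closure hz : z ∈ closure {η})

/-- Reduced schemes with locally finitely many irreducible components. -/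
theorem finAss_of_locallyFinite [IsReduced X] (h : ∀ x : X, ∃ W : X.Opens, x ∈ W ∧
    {Z : Set X | Z ∈ irreducibleComponents X ∧ (Z ∩ (W : Set X)).Nonempty}.Finite) : FinAss X := by
  intro V hV
  choose W hxW hfin using h
  obtain ⟨S, hS⟩ := hV.isCompact.elim_finite_subcover (fun x : X => (W x : Set X)) (fun x => (W x).2)
    (fun z _ => Set.mem_iUnion.2 ⟨z, hxW z⟩)
  refine Set.Finite.of_finite_image (f := fun x : X => closure ({x} : Set X))
    ((S.finite_toSet.biUnion fun z _ => hfin z).subset ?_) ?_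
  · rintro _ ⟨x, ⟨hxV, hxa⟩, rfl⟩
    obtain ⟨z, hz, hxz⟩ := Set.mem_iUnion₂.1 (hS hxV)
    exact Set.mem_iUnion₂.2 ⟨z, hz, closure_mem_components fun y hy => eq_of_ass_of_reduced hxa hy,
      x, subset_closure rfl, hxz⟩
  · intro x _ y _ hxy
    have hxy' : closure ({x} : Set X) = closure {y} := hxy
    have h1 : y ∈ closure ({x} : Set X) := by rw [hxy']; exact subset_closure rfl
    have h2 : x ∈ closure ({y} : Set X) := by rw [← hxy']; exact subset_closure rfl
    exact ((specializes_iff_mem_closure.2 h1).antisymm (specializes_iff_mem_closure.2 h2)).eq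

theorem finAss_of_compact_components (hmax : ∀ x : X, AssX x → ∀ y : X, y ⤳ x → y = x)
    (hfin : ∀ U : X.Opens, IsCompact (U : Set X) → (irreducibleComponents ↥(U : Scheme.{u})).Finite) :
    FinAss X := fun V hV => finite_of_finite_components (hfin V hV.isCompact) fun x _ => hmax x

/-- A section generating a stalk at a point. -/
theorem exists_generator (hL : PicF.IsInvertible L) (ξ : X) :
    ∃ (V : X.Opens) (hV : ξ ∈ V) (t : Γ(L, V)), ∀ (y : X) (hy : y ∈ V),
      Submodule.span (X.presheaf.stalk y) {L.presheaf.germ V y hy t} = ⊤ := by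
  obtain ⟨V, hV, e, he⟩ := InvX.exists_frame hL ξ
  exact ⟨V, hV, e, fun y hy => eq_top_iff.2 fun z _ =>
    Submodule.mem_span_singleton.2 ((stalk_bijective he hy).2 z)⟩

/-- An invertible module has a regular meromorphic section when associated points are isolated. -/
theorem hasRegularMero_of_inc (hfin : FinAss X) (hinc : Inc X) (hL : PicF.IsInvertible L) :
    Mero.HasRegularMero L := by
  let ι := {x : X // AssX x}
  choose A hA hAy using fun ξ : ι => exists_isolating hfin hinc ξ.1 ξ.2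
  choose B hB t ht using fun ξ : ι => exists_generator hL ξ.1
  let W : ι → X.Opens := fun ξ => A ξ ⊓ B ξ
  have hdisj : ∀ i j : ι, i ≠ j → W i ⊓ W j = ⊥ := fun i j hij => eq_bot_of_no_ass fun y hy hya =>
    hij (Subtype.ext ((hAy i y hy.1.1 hya).symm.trans (hAy j y hy.2.1 hya)))
  obtain ⟨m, hm, -⟩ := existsUnique_glue (M := L) (V := ⨆ ξ, W ξ) W (fun ξ => le_iSup W ξ)
    (fun p hp => Opens.mem_iSup.1 hp) (fun ξ => res L (inf_le_right : W ξ ≤ B ξ) (t ξ)) (fun i j => by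
      by_cases hij : i = j
      · subst hij; rfl
      · refine eq_of_locally _ _ fun p hp => ?_
        rw [hdisj i j hij] at hp
        exact hp.elim)
  refine hasRegularMero_of_generator hfin hL (W := ⨆ ξ, W ξ)
    (fun y hy => Opens.mem_iSup.2 ⟨⟨y, hy⟩, hA ⟨y, hy⟩, hB ⟨y, hy⟩⟩) m fun y hy hya => ?_
  have hyW : y ∈ W ⟨y, hya⟩ := ⟨hA ⟨y, hya⟩, hB ⟨y, hya⟩⟩
  rw [← germ_res (le_iSup W ⟨y, hya⟩) hyW m, hm, germ_res]
  exact ht ⟨y, hya⟩ y _

/-- An invertible module has a regular meromorphic section when the associated points lie in an affine open. -/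
theorem hasRegularMero_of_affine (hfin : FinAss X) (hL : PicF.IsInvertible L) {W : X.Opens}
    (hW : IsAffineOpen W) (hass : ∀ y : X, AssX y → y ∈ W) : Mero.HasRegularMero L := by
  classical
  let S := {x : X | x ∈ W ∧ AssX x ∧ ∀ η, AssX η → x ⤳ η → η = x}
  haveI : Fintype S := ((hfin W hW).subset fun x hx => ⟨hx.1, hx.2.1⟩).fintype
  let P : S → Ideal Γ(X, W) := fun ξ => (hW.primeIdealOf ⟨ξ.1, ξ.2.1⟩).asIdeal
  haveI hP : ∀ ξ, (P ξ).IsPrime := fun ξ => inferInstance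
  have htop : ∀ y : X, AssX y → ∃ ξ : S, y ⤳ ξ.1 := by
    intro y hy
    haveI : Fintype {x : X | x ∈ W ∧ AssX x} := (hfin W hW).fintype
    let T := {x : X | x ∈ W ∧ AssX x ∧ y ⤳ x}
    have hT : T.Finite := (hfin W hW).subset fun x hx => ⟨hx.1, hx.2.1⟩
    obtain ⟨ξ, hξ, hmax⟩ := Set.Finite.exists_maximalFor
      (fun x : X => if hx : x ∈ W then (hW.primeIdealOf ⟨x, hx⟩).asIdeal else ⊥) T hT ⟨y, hass y hy, hy, specializes_rfl⟩
    refine ⟨⟨ξ, hξ.1, hξ.2.1, fun η hη hξη => ?_⟩, hξ.2.2⟩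
    have hηW := hass η hη
    have hle := (AssPtX.primeIdealOf_le_iff hW hξ.1 hηW).2 hξη
    have h1 := hmax (show η ∈ T from ⟨hηW, hη, hξ.2.2.trans hξη⟩)
      (by simp only [dif_pos hξ.1, dif_pos hηW]; exact hle)
    simp only [dif_pos hξ.1, dif_pos hηW] at h1
    exact (((AssPtX.primeIdealOf_le_iff hW hηW hξ.1).1 h1).antisymm hξη).eq
  have hex : ∀ ξ : S, ∃ c : Γ(X, W), c ∉ P ξ ∧ ∀ η : S, η ≠ ξ → c ∈ P η := by
    intro ξ
    choose d hd hd' using fun η : {η : S // η ≠ ξ} => Set.not_subset.1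
      (fun hle : (P η.1 : Set Γ(X, W)) ⊆ P ξ => η.2 (Subtype.ext
        (η.1.2.2.2 ξ.1 ξ.2.2.1 ((AssPtX.primeIdealOf_le_iff hW η.1.2.1 ξ.2.1).1 hle)).symm))
    refine ⟨∏ η, d η, fun h => ?_, fun η hη => ?_⟩
    · obtain ⟨η, -, hη⟩ := (Ideal.IsPrime.prod_mem_iff).1 h
      exact hd' η hη
    · exact Ideal.mem_of_dvd _ (Finset.dvd_prod_of_mem d (Finset.mem_univ ⟨η, hη⟩)) (hd ⟨η, hη⟩)
  choose c hc hc' using hex
  have hloc : ∀ ξ : S, ∃ t : Γ(L, W),
      Submodule.span (X.presheaf.stalk ξ.1) {L.presheaf.germ W ξ.1 ξ.2.1 t} = ⊤ := by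
    intro ξ
    obtain ⟨B, hB, t₀, ht₀⟩ := exists_generator hL ξ.1
    letI := QCoh.stalkModule L ξ.2.1
    haveI := QCoh.isLocalizedModule_germLin (ProjUPX.isQCoh_of_isInvertible hL) hW ξ.2.1
    obtain ⟨⟨t, s⟩, hts⟩ := IsLocalizedModule.surj (P ξ).primeCompl (QCoh.germLin L ξ.2.1)
      (L.presheaf.germ B ξ.1 hB t₀)
    refine ⟨t, ?_⟩
    have hts' : X.presheaf.germ W ξ.1 ξ.2.1 s.1 • L.presheaf.germ B ξ.1 hB t₀ = L.presheaf.germ W ξ.1 ξ.2.1 t := hts
    have hu : IsUnit (X.presheaf.germ W ξ.1 ξ.2.1 s.1) :=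
      (X.mem_basicOpen _ ξ.1 ξ.2.1).1 ((QCoh.mem_basicOpen_iff_notMem hW ξ.2.1 _).2 s.2)
    rw [← hts', Submodule.span_singleton_smul_eq hu]
    exact ht₀ _ hB
  choose t ht using hloc
  let m : Γ(L, W) := ∑ ξ, c ξ • t ξ
  refine hasRegularMero_of_generator hfin hL hass m fun y hy hya => ?_
  obtain ⟨ξ, hyξ⟩ := htop y hya
  obtain ⟨B, hBξ, e, he⟩ := InvX.exists_frame hL ξ.1
  have hu : ∀ η : S, ∃ r, r • L.presheaf.germ B ξ.1 hBξ e = L.presheaf.germ W ξ.1 ξ.2.1 (t η) :=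
    fun η => (stalk_bijective he hBξ).2 _
  choose r hr using hu
  let R := ∑ η, X.presheaf.germ W ξ.1 ξ.2.1 (c η) * r η
  have hR : L.presheaf.germ W ξ.1 ξ.2.1 m = R • L.presheaf.germ B ξ.1 hBξ e := by
    rw [map_sum, Finset.sum_smul]
    exact Finset.sum_congr rfl fun η _ => by rw [QCoh.germ_smul', ← hr, mul_smul]
  have hrξ : IsUnit (r ξ) := by
    obtain ⟨d, hd⟩ := Submodule.mem_span_singleton.1 ((ht ξ).symm ▸ Submodule.mem_top :
      L.presheaf.germ B ξ.1 hBξ e ∈ _)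
    rw [← hr ξ, ← mul_smul] at hd
    exact .of_mul_eq_one_right d ((stalk_bijective he hBξ).1 (hd.trans (one_smul _ _).symm))
  have hRu : IsUnit R := by
    let R' := ∑ η ∈ Finset.univ.erase ξ, X.presheaf.germ W ξ.1 ξ.2.1 (c η) * r η
    have hR' : R' ∈ IsLocalRing.maximalIdeal (X.presheaf.stalk ξ.1) :=
      Submodule.sum_mem _ fun η hη => Ideal.mul_mem_right _ _ (by
        rw [IsLocalRing.mem_maximalIdeal]
        exact fun h => (QCoh.mem_basicOpen_iff_notMem hW ξ.2.1 _).1 ((X.mem_basicOpen _ ξ.1 ξ.2.1).2 h)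
          (hc' η ξ (Finset.ne_of_mem_erase hη).symm))
    have hsplit : X.presheaf.germ W ξ.1 ξ.2.1 (c ξ) * r ξ + R' = R :=
      Finset.add_sum_erase Finset.univ (fun η => X.presheaf.germ W ξ.1 ξ.2.1 (c η) * r η) (Finset.mem_univ ξ)
    by_contra hnu
    have h1 : X.presheaf.germ W ξ.1 ξ.2.1 (c ξ) * r ξ ∈ IsLocalRing.maximalIdeal (X.presheaf.stalk ξ.1) := by
      rw [show X.presheaf.germ W ξ.1 ξ.2.1 (c ξ) * r ξ = R - R' from eq_sub_of_add_eq hsplit]
      exact sub_mem ((IsLocalRing.mem_maximalIdeal R).2 hnu) hR'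
    exact (IsLocalRing.mem_maximalIdeal _).1 h1
      (((X.mem_basicOpen _ ξ.1 ξ.2.1).1 ((QCoh.mem_basicOpen_iff_notMem hW ξ.2.1 _).2 (hc ξ))).mul hrξ)
  -- spread out to the generization `y`
  obtain ⟨u, hu⟩ := hRu
  obtain ⟨O, hξO, ρ, hρ⟩ := X.presheaf.exists_germ_eq (R : X.presheaf.stalk ξ.1)
  have hρu : ξ.1 ∈ X.basicOpen ρ := (X.mem_basicOpen ρ ξ.1 hξO).2 (hρ.symm ▸ ⟨u, hu⟩)
  let D := W ⊓ B ⊓ O
  have hξD : ξ.1 ∈ D := ⟨⟨ξ.2.1, hBξ⟩, hξO⟩
  have heq : L.presheaf.germ D ξ.1 hξD (res L (inf_le_left.trans inf_le_left) m) =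
      L.presheaf.germ D ξ.1 hξD (resR (inf_le_right : D ≤ O) ρ • res L (inf_le_left.trans inf_le_right) e) := by
    rw [QCoh.germ_smul', germ_res, germ_res, germ_resR, hρ, hR]
  obtain ⟨D', hξD', i, j, hD'⟩ := L.presheaf.germ_eq ξ.1 hξD hξD _ _ heq
  have hyD' : y ∈ D' := hyξ.mem_open D'.2 hξD'
  have hyD : y ∈ D := i.le hyD'
  have h2 := congrArg (L.presheaf.germ D' y hyD') hD'
  rw [L.presheaf.germ_res_apply, L.presheaf.germ_res_apply, QCoh.germ_smul', germ_res, germ_res, germ_resR] at h2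
  rw [h2, Submodule.span_singleton_smul_eq ((X.mem_basicOpen ρ y hyD.2).1 (hyξ.mem_open (X.basicOpen ρ).2 hρu))]
  exact eq_top_iff.2 fun z _ => Submodule.mem_span_singleton.2 ((stalk_bijective he hyD.1.2).2 z)

end Groth.Agent.MeroX
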