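import Groth.Agent.MeroX.Basic
import Mathlib.AlgebraicGeometry.Noetherian
import Mathlib.RingTheory.Ideal.AssociatedPrime.Localization

/-!
Pullback of regular sections along maps sending associated points to associated points.
-/

universe u

open CategoryTheory AlgebraicGeometry TopologicalSpace Opposite

namespace Groth.Agent.MeroX

variable {X Y : Scheme.{u}}

lemma isAssociatedPrime_maximalIdeal {U : X.Opens} (hU : IsAffineOpen U)
    (q : PrimeSpectrum Γ(X, U)) (hq : q.asIdeal ∈ associatedPrimes Γ(X, U) Γ(X, U))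
    (hy : hU.fromSpec q ∈ U) :
    IsAssociatedPrime (IsLocalRing.maximalIdeal (X.presheaf.stalk (hU.fromSpec q)))
      (X.presheaf.stalk (hU.fromSpec q)) := by
  let := TopCat.Presheaf.algebra_section_stalk X.presheaf ⟨hU.fromSpec q, hy⟩
  have hloc : IsLocalization.AtPrime (X.presheaf.stalk (hU.fromSpec q)) q.asIdeal :=
    hU.isLocalization_stalk' q hy
  haveI : IsLocalizedModule q.asIdeal.primeCompl
      (Algebra.linearMap Γ(X, U) (X.presheaf.stalk (hU.fromSpec q))) :=
    (isLocalizedModule_iff_isLocalization' q.asIdeal.primeCompl _).mpr hloc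
  refine Module.associatedPrimes.mem_associatedPrimes_of_comap_mem_associatedPrimes_of_isLocalizedModule
    q.asIdeal.primeCompl (Algebra.linearMap Γ(X, U) (X.presheaf.stalk (hU.fromSpec q))) _ ?_
  exact Set.mem_of_eq_of_mem
    (IsLocalization.AtPrime.comap_maximalIdeal (X.presheaf.stalk (hU.fromSpec q)) q.asIdeal) hq

lemma regSub_pullback [IsLocallyNoetherian X] (f : X ⟶ Y)
    (hf : ∀ x : X, IsAssociatedPrime (IsLocalRing.maximalIdeal (X.presheaf.stalk x)) (X.presheaf.stalk x) →
      IsAssociatedPrime (IsLocalRing.maximalIdeal (Y.presheaf.stalk (f x))) (Y.presheaf.stalk (f x)))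
    (U : Y.Opens) (s : Γ(Y, U)) (hs : s ∈ Mero.regSub Y U) :
    f.app U s ∈ Mero.regSub X (f ⁻¹ᵁ U) := by
  intro x
  obtain ⟨_, ⟨V, hV, rfl⟩, hxV, hVU⟩ :=
    X.isBasis_affineOpens.exists_subset_of_mem_open x.2 (f ⁻¹ᵁ U).2
  let b : Γ(X, V) := X.presheaf.map (homOfLE hVU).op (f.app U s)
  haveI : IsNoetherianRing Γ(X, V) := IsLocallyNoetherian.component_noetherian ⟨V, hV⟩
  have hb : b ∈ nonZeroDivisors Γ(X, V) := by
    by_contra h
    have h' : b ∈ ((nonZeroDivisors Γ(X, V) : Set Γ(X, V)))ᶜ := h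
    rw [← biUnion_associatedPrimes_eq_compl_nonZeroDivisors] at h'
    obtain ⟨P, hP, hbP⟩ := Set.mem_iUnion₂.mp h'
    let q : PrimeSpectrum Γ(X, V) := ⟨P, hP.isPrime⟩
    have hy : hV.fromSpec q ∈ V := hV.range_fromSpec.le ⟨q, rfl⟩
    have hm := hf _ (isAssociatedPrime_maximalIdeal hV q hP hy)
    -- the germ of `s` at the image point is a unit
    have hu : IsUnit (Y.presheaf.germ U (f (hV.fromSpec q)) (hVU hy) s) := by
      by_contra hn
      obtain ⟨-, c, hc⟩ := hm
      have h1 := hs ⟨f (hV.fromSpec q), hVU hy⟩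
      have hmem : Y.presheaf.germ U _ (hVU hy) s ∈ IsLocalRing.maximalIdeal _ := hn
      rw [hc, Ideal.mem_radical_iff] at hmem
      obtain ⟨n, hn'⟩ := hmem
      rw [Submodule.mem_colon_singleton, Submodule.mem_bot, smul_eq_mul, mul_comm] at hn'
      have hc0 : c = 0 := mem_nonZeroDivisors_iff_right.mp (pow_mem h1 n) _ hn'
      rw [hc0] at hc
      refine (IsLocalRing.maximalIdeal.isMaximal (Y.presheaf.stalk (f (hV.fromSpec q)))).ne_top
        ((Ideal.eq_top_iff_one _).mpr ?_)
      rw [hc]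
      exact Ideal.le_radical (by simp [Submodule.mem_colon_singleton])
    have hu' : IsUnit (X.presheaf.germ V (hV.fromSpec q) hy b) := by
      simp only [b]
      erw [TopCat.Presheaf.germ_res_apply, ← Scheme.Hom.germ_stalkMap_apply]
      exact hu.map _
    rw [← Scheme.mem_basicOpen] at hu'
    have : q ∈ hV.fromSpec ⁻¹ᵁ X.basicOpen b := hu'
    rw [hV.fromSpec_preimage_basicOpen] at this
    exact this hbP
  have := germ_mem_nonZeroDivisors hV hb x.1 hxV
  simp only [b] at this
  erw [TopCat.Presheaf.germ_res_apply] at this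
  exact this

end Groth.Agent.MeroX
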